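import Cfsg.Agent.Lib.PSLF.M2
import Cfsg.Agent.Lib.Alt.SylNorm

/-! Existence of the realization data. -/
set_option autoImplicit false

namespace Cfsg.Lib.PSLF
open Equiv Matrix Polynomial

variable {n : ℕ} {F : Type*} [Field F] [Fintype F]

theorem mem_range_of_pow {E : Type*} [Field E] (ι : F →+* E) {x : E} (h : x ^ Fintype.card F = x) :
    ∃ l, ι l = x := by
  classical
  have h1 : 1 < Fintype.card F := Fintype.one_lt_card
  have hne := FiniteField.X_pow_card_sub_X_ne_zero E h1
  have hsub : Finset.univ.image ι ⊆ (X ^ Fintype.card F - X : E[X]).roots.toFinset := by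
    intro y hy
    obtain ⟨l, -, rfl⟩ := Finset.mem_image.1 hy
    simp [hne, ← map_pow, FiniteField.pow_card]
  have hc : (X ^ Fintype.card F - X : E[X]).roots.toFinset.card ≤ (Finset.univ.image ι).card := by
    rw [Finset.card_image_of_injective _ ι.injective, Finset.card_univ]
    refine (Multiset.toFinset_card_le _).trans ((card_roots' _).trans ?_)
    rw [FiniteField.X_pow_card_sub_X_natDegree_eq E h1]
  have := Finset.eq_of_subset_of_card_le hsub hc
  have hx : x ∈ (X ^ Fintype.card F - X : E[X]).roots.toFinset := by simp [hne, h]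
  rw [← this] at hx
  obtain ⟨l, -, e⟩ := Finset.mem_image.1 hx
  exact ⟨l, e⟩

theorem exists_real (hq : Odd (Fintype.card F)) (P : Par n) (hu : P.u = (Fintype.card F : P.R)) :
    Nonempty (Real P F (AlgebraicClosure F)) := by
  have h2 : (2 : F) ≠ 0 := Ring.two_ne_zero fun h => by
    have := FiniteField.even_card_of_char_two h
    have := Nat.odd_iff.1 hq
    omega
  have h2' : (2 : AlgebraicClosure F) ≠ 0 := by
    simpa only [map_ofNat] using (map_ne_zero (algebraMap F (AlgebraicClosure F))).2 h2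
  haveI : NeZero ((2 ^ P.e : ℕ) : AlgebraicClosure F) := ⟨by simpa using fun h => (h2' h).elim⟩
  obtain ⟨ζ, hζ⟩ := HasEnoughRootsOfUnity.exists_primitiveRoot (AlgebraicClosure F) (2 ^ P.e)
  let χ := AddChar.zmodChar (2 ^ P.e) hζ.pow_eq_one
  let σ := (FiniteField.frobeniusAlgHom F (AlgebraicClosure F)).toRingHom
  have hσ : ∀ x, σ x = x ^ Fintype.card F := fun _ => rfl
  have h3 : ∀ x, σ x = x ↔ ∃ c, algebraMap F (AlgebraicClosure F) c = x := fun x =>
    ⟨mem_range_of_pow _, fun ⟨c, hc⟩ => hc ▸ (FiniteField.frobeniusAlgHom F (AlgebraicClosure F)).commutes c⟩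
  have h4 : Function.Injective χ := fun x y h =>
    ZMod.val_injective _ (hζ.pow_inj (ZMod.val_lt x) (ZMod.val_lt y) h)
  have h5 : ∀ x, σ (χ x) = χ (P.u * x) := fun x => by
    rw [hσ, ← χ.map_nsmul_eq_pow, hu, nsmul_eq_mul]
  rcases P.cs' with ⟨-, hφ⟩ | ⟨he, hu, -, -⟩
  · exact ⟨⟨σ, h3, χ, h4, h5, 1, 1, one_mul _, fun i j => by
      rw [hφ, Perm.one_apply, one_apply]; split_ifs <;> simp⟩⟩
  have h6 : χ P.h ^ 2 = 1 := by rw [sq, ← χ.map_add_eq_mul, P.h_add, AddChar.map_zero_eq_one]
  have h7 : χ P.h = -1 := (sq_eq_one_iff.1 h6).resolve_left fun e =>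
    P.h_ne (h4 (e.trans χ.map_zero_eq_one.symm))
  have h8 : χ P.k * χ P.k = -1 := by rw [← χ.map_add_eq_mul, ← two_mul, P.two_k, h7]
  have h9 : σ (χ P.k) = -χ P.k := by
    rw [h5, show P.u * P.k = P.h + P.k by rw [hu]; linear_combination P.k_h he - P.two_k - P.two_h,
      χ.map_add_eq_mul, h7, neg_one_mul]
  generalize χ P.k = ι at h8 h9
  have h0 : ι ≠ 0 := fun e => by simp [e] at h8
  let Q : Matrix (Fin n) (Fin n) (AlgebraicClosure F) := of fun i j => if i = P.φ j then 1 else 0
  have hQ : Q * Q = 1 := by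
    ext i j
    rw [mul_apply, Finset.sum_eq_single (P.φ j) (fun k _ h => by simp [Q, h]) (by simp)]
    simp [Q, P.hφ, one_apply]
  refine ⟨⟨σ, h3, χ, h4, h5, (1 + ι) • 1 + (1 - ι) • Q, (2 * 2 * ι)⁻¹ • ((1 + ι) • 1 - (1 - ι) • Q), ?_,
    fun i j => ?_⟩⟩
  · rw [Matrix.mul_smul, inv_smul_eq_iff₀ (mul_ne_zero (mul_ne_zero h2' h2') h0)]
    simp only [add_mul, mul_sub, Matrix.smul_mul, Matrix.mul_smul, hQ, one_mul, mul_one]
    module
  · simp only [Q, Matrix.add_apply, Matrix.smul_apply, of_apply, one_apply, smul_eq_mul, map_add, map_mul, map_sub, map_one,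
      h9, P.hφ, apply_ite σ, map_zero]
    ring

theorem exists_par (hn : 2 ≤ n) (hq : Odd (Fintype.card F)) : ∃ P : Par n, P.u = (Fintype.card F : P.R) ∧
    padicValNat 2 (Nat.card (Matrix.SpecialLinearGroup (Fin n) F)) ≤ padicValNat 2 (Nat.card (Mon P)) := by
  have h1 : 1 < Fintype.card F := Fintype.one_lt_card
  have hv := fun a f => val_SL (a := a) (f := f) (n := n) (by omega) F hq
  generalize Fintype.card F = q at *
  have h2 := padicValNat.pow_two_sub_one h1 hq.not_two_dvd_nat two_ne_zero even_two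
  rw [padicValNat_self] at h2
  have h3 : q % 2 = 1 := Nat.odd_iff.1 hq
  have two : ∀ m, m % 4 = 2 → padicValNat 2 m = 1 := fun m hm => by
    rw [show m = 2 * (m / 2) by omega, padicValNat.mul two_ne_zero (by omega),
      padicValNat.eq_zero_of_not_dvd (n := _ / 2) (by omega), padicValNat_self]
  have four : ∀ m, m ≠ 0 → m % 4 = 0 → 2 ≤ padicValNat 2 m := fun m h hm =>
    (padicValNat_dvd_iff_le h).1 (by omega)
  let T : Sylow 2 (Perm (Fin n)) := default
  rcases (by omega : q % 4 = 1 ∨ q % 4 = 3) with h | h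
  · let P : Par n := ⟨padicValNat 2 (q - 1), 1, 1, fun _ => rfl, .inl ⟨four _ (by omega) (by omega), rfl, rfl⟩⟩
    refine ⟨P, ?_, le_trans ?_ (P.val_Mon hn T fun _ _ _ => rfl)⟩
    · have : ((q - 1 : ℕ) : P.R) = 0 := (ZMod.natCast_eq_zero_iff _ _).2 pow_padicValNat_dvd
      rw [Nat.cast_sub h1.le] at this
      change (1 : P.R) = _
      linear_combination (exp := 1) -this + Nat.cast_one (R := P.R)
    · have a := P.le_card_XX.trans P.card_XX_le
      have b := P.card_split
      have c : Nat.card P.YY = 2 ^ P.e := by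
        rw [show P.YY = ⊤ from eq_top_iff.2 fun c _ => one_mul c, AddSubgroup.card_top, Nat.card_zmod]
      have d : Nat.card {a // a < P.φ a} = 0 := by simp [P]
      rw [d] at a b
      obtain ⟨m, rfl⟩ : ∃ m, n = m + 1 := ⟨n - 1, by omega⟩
      rw [show Nat.card {a // P.φ a = a} = m + 1 by omega, c, pow_zero, one_mul, pow_succ,
        Nat.mul_le_mul_right_iff (by positivity), ← pow_mul] at a
      have e := P.val_DD a
      obtain ⟨f, g⟩ := hv ((m + 1) / 2) ((m + 1) % 2) (by omega) (by omega)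
      rw [two (q + 1) (by omega)] at h2
      rw [show padicValNat 2 (q ^ 2 - 1) = P.e + 1 by simp only [P]; omega] at f
      change P.e + _ = _ + _ * P.e + _ at f
      have : P.e * (m + 1) = P.e * (2 * ((m + 1) / 2) + (m + 1) % 2) := by congr 1; omega
      nlinarith
  · obtain ⟨z, hz, z1, z2, -⟩ := Alt.SylNorm.exists_pairing T
    rw [two (q - 1) (by omega)] at h2 hv
    have h4 := four (q + 1) (by omega) (by omega)
    let P : Par n := ⟨padicValNat 2 (q ^ 2 - 1), 2 ^ (padicValNat 2 (q ^ 2 - 1) - 1) - 1, z, hz,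
      .inr ⟨by omega, rfl, z1⟩⟩
    have hu : P.u ≠ 1 := by
      rcases P.cs' with h | h
      · exact fun _ => absurd (z1 ⟨0, by omega⟩ ⟨1, by omega⟩ (DFunLike.congr_fun h.2 _) (DFunLike.congr_fun h.2 _))
          (by simp)
      · exact h.2.2.1
    refine ⟨P, ?_, le_trans ?_ (P.val_Mon hn T z2)⟩
    · obtain ⟨c, hc⟩ : 2 ^ padicValNat 2 (q + 1) ∣ q + 1 := pow_padicValNat_dvd
      have hc' : Odd c := Nat.odd_iff.2 (by_contra fun e => pow_succ_padicValNat_not_dvd (p := 2)
        (n := q + 1) (by omega) (by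
          rw [pow_succ]; nth_rw 2 [hc]; exact Nat.mul_dvd_mul_left _ (by omega)))
      obtain ⟨d, rfl⟩ := hc'
      have e := congrArg (Nat.cast : ℕ → P.R) hc
      rw [show padicValNat 2 (q + 1) = P.e - 1 by simp only [P]; omega] at e
      push_cast at e
      change P.h - 1 = _
      change _ = P.h * _ at e
      linear_combination -e - d * P.two_h
    · have a := P.le_card_XX.trans P.card_XX_le
      have b := P.card_split
      have c := P.card_YY hu
      have d : Nat.card {a // P.φ a = a} ≤ 1 :=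
        Finite.card_le_one_iff_subsingleton.2 ⟨fun a b => Subtype.ext (z1 _ _ a.2 b.2)⟩
      obtain ⟨f, g⟩ := hv _ _ b d
      rw [Nat.card_zmod, ← pow_mul] at a
      change _ = _ * P.e + _ + _ at f
      have he := P.two_le
      generalize Nat.card {a // a < P.φ a} = m at *
      have hm : 2 ≤ m * P.e := by
        have : 1 ≤ m := by omega
        nlinarith
      rw [mul_comm P.e] at a
      rcases Nat.le_one_iff_eq_zero_or_eq_one.1 d with d | d <;> rw [d] at a f
      · have e := P.val_DD (a := m * P.e - 1) (Nat.le_of_mul_le_mul_right (c := 2) (by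
          rw [← pow_succ, Nat.sub_add_cancel (by omega)]
          exact (by simpa using a : _ ≤ _).trans (Nat.mul_le_mul_left _ c)) two_pos)
        omega
      · rw [pow_one, Nat.mul_le_mul_right_iff Nat.card_pos] at a
        have e := P.val_DD a
        omega

end Cfsg.Lib.PSLF
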