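import Cfsg.Agent.Lib.PSLF.Data
import Cfsg.Agent.Lib.PSLF.M3
import Mathlib.LinearAlgebra.Matrix.ProjectiveSpecialLinearGroup
set_option autoImplicit false

namespace Cfsg.Lib.PSLF

/-- The monomial model of `PSL_n(q)`, `q` odd, `n ≥ 3`. -/
theorem exists_model {n : ℕ} (hn : 3 ≤ n) (F : Type*) [Field F] [Fintype F] (hq : Odd (Fintype.card F)) :
    ∃ (P : Par n) (Δ : Mon P →* Matrix.ProjectiveSpecialLinearGroup (Fin n) F), IsModel Δ := by
  obtain ⟨P, hu, hc⟩ := exists_par (n := n) (by omega) hq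
  obtain ⟨R⟩ := exists_real hq P hu
  exact ⟨P, _, R.isModel (by omega) hc⟩

end Cfsg.Lib.PSLF
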