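import Cfsg.Agent.Lib.PSLF.Aut

/-! A fusion preserving automorphism of odd order of a Sylow 2-subgroup of a group with a monomial model is trivial. -/
set_option autoImplicit false

namespace Cfsg.Lib.PSLF
open Equiv Subgroup Par Cfsg.Lib.Alt.SylNorm

variable {n : ℕ} {P : Par n} {L : Type*} [Group L] {Δ : Mon P →* L}

/-- diagonal elements -/
def dg (x : Fin n → P.R) (hx : x ∈ P.DD) : Mon P := ⟨x, 1, fun _ => rfl, hx.1, by simp [hx.2]⟩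

/-- the permutation part in the Weyl group -/
def pw : Mon P →* P.W := Mon.pr.codRestrict _ fun m => mem_W.2 m.comm

theorem pw_surj (hn : 3 ≤ n) : Function.Surjective (pw (P := P)) := fun w => by
  obtain ⟨m, hm⟩ := Mon.exists_pi (P := P) (by omega) w.1 (comm w)
  exact ⟨m, Subtype.ext hm⟩

theorem pw_eq_one {m : Mon P} : pw m = 1 ↔ m.π = 1 := Subtype.ext_iff

theorem isP_ker : IsPGroup 2 (pw (P := P)).ker := fun m => ⟨P.e, Subtype.ext (by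
  have hm : m.1.π = 1 := pw_eq_one.1 m.2
  have : ∀ k : ℕ, (m.1 ^ k).π = 1 ∧ ∀ j, (m.1 ^ k).x j = k * m.1.x j := fun k => by
    induction k with
    | zero => simp
    | succ k ih => simp [pow_succ, ih, hm, add_mul]
  exact Mon.ext (funext fun j => by simp [(this _).2]) (this _).1)⟩

namespace IsModel
variable (H : IsModel Δ)

/-- the diagonal part modulo scalars inside `L` -/
def δ' : P.Ab →+ Additive L := QuotientAddGroup.lift _
  (AddMonoidHom.mk' (fun x => Additive.ofMul (Δ (dg x.1 x.2))) fun x y => by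
    rw [← ofMul_mul, ← map_mul]; exact congrArg (fun m => Additive.ofMul (Δ m)) (Mon.ext (funext fun j => by simp [dg]) (by simp [dg])))
  fun x hx => (H.ker _).2 ⟨rfl, by
    rcases isEmpty_or_nonempty (Fin n) with h | ⟨⟨i⟩⟩
    exacts [⟨0, fun j => h.elim j⟩, ⟨x.1 i, fun j => hx j i⟩]⟩

/-- the diagonal part modulo scalars inside `L` -/
def δ (y : P.Ab) : L := (H.δ' y).toMul

theorem δ_cl (x : Fin n → P.R) (hx : x ∈ P.DD) : H.δ (cl x hx) = Δ (dg x hx) := rfl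

theorem δ_add (y z : P.Ab) : H.δ (y + z) = H.δ y * H.δ z := by simp [δ]

theorem δ_sub (y z : P.Ab) : H.δ (y - z) = H.δ y * (H.δ z)⁻¹ := by simp [δ, div_eq_mul_inv]

theorem δ_nsmul (k : ℕ) (y : P.Ab) : H.δ (k • y) = H.δ y ^ k := by simp [δ]

theorem δ_zero : H.δ 0 = 1 := by simp [δ]

theorem δ_inj : Function.Injective H.δ := by
  refine Additive.toMul.injective.comp ((injective_iff_map_eq_zero H.δ').2 fun y hy => ?_)
  obtain ⟨x, hx, rfl⟩ := cl_surj y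
  obtain ⟨-, c, hc⟩ := (H.ker (dg x hx)).1 hy
  exact cl_eq_zero.2 fun i j => (hc i).trans (hc j).symm

theorem exists_δ {m : Mon P} (hm : m.π = 1) : ∃ y, H.δ y = Δ m :=
  ⟨cl m.x ⟨m.tw, by simpa [hm] using m.det⟩, congrArg Δ (Mon.ext rfl hm.symm)⟩

theorem conj_δ (m : Mon P) (y : P.Ab) : Δ m * H.δ y * (Δ m)⁻¹ = H.δ (ρ (pw m) y) := by
  obtain ⟨x, hx, rfl⟩ := cl_surj y
  rw [ρ_cl, δ_cl, δ_cl, ← map_inv, ← map_mul, ← map_mul]
  congr 1
  exact Mon.ext (funext fun j => Mon.conj_x _ _ rfl j) (by simp [dg])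

/-- the image of the diagonal part -/
def A (_ : IsModel Δ) : Subgroup L := (pw (P := P)).ker.map Δ

theorem mem_A {g : L} : g ∈ H.A ↔ ∃ y, H.δ y = g :=
  ⟨fun ⟨_, hm, e⟩ => e ▸ H.exists_δ (pw_eq_one.1 hm), fun ⟨y, e⟩ => by
    obtain ⟨x, hx, rfl⟩ := cl_surj y
    exact ⟨dg x hx, pw_eq_one.2 rfl, e⟩⟩

theorem δ_mem (y : P.Ab) : H.δ y ∈ H.A := H.mem_A.2 ⟨y, rfl⟩

theorem map_mem_A {m : Mon P} : Δ m ∈ H.A ↔ m.π = 1 :=
  ⟨fun ⟨m', hm, e⟩ => by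
    have := ((H.ker (m'⁻¹ * m)).1 (by rw [map_mul, map_inv, e, inv_mul_cancel])).1
    simpa [pw_eq_one.1 hm] using this, fun h => ⟨m, pw_eq_one.2 h, rfl⟩⟩

include H in
theorem isP_kerΔ : IsPGroup 2 Δ.ker := isP_ker.to_le fun m hm => pw_eq_one.2 ((H.ker m).1 hm).1

variable {T : Sylow 2 L} (hT : (T : Subgroup L) ≤ Δ.range)
include hT

theorem A_le : H.A ≤ T := map_le_iff_le_comap.2 (isP_ker.le_sylow_of_normal (T.comapOfKerIsPGroup Δ H.isP_kerΔ hT))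

theorem normal_A : (H.A.subgroupOf T).Normal := ⟨fun a ha t => by
  obtain ⟨y, e⟩ := H.mem_A.1 ha
  obtain ⟨m, hm⟩ := hT t.2
  refine H.mem_A.2 ⟨ρ (pw m) y, ?_⟩
  rw [← H.conj_δ, e, hm]; rfl⟩

theorem nab (hn : 3 ≤ n) (B : Subgroup (T : Subgroup L)) [hB : B.Normal] (hc : ∀ x ∈ B, ∀ y ∈ B, x * y = y * x)
    (h4 : P.Exc → ∀ x ∈ B, x ^ 4 = 1) (hr : P.Exc → ∀ x ∈ B, ∀ y ∈ B, ∀ z ∈ B, x ^ 2 = 1 → y ^ 2 = 1 → z ^ 2 = 1 →
      x ≠ 1 → y ≠ 1 → x ≠ y → z = 1 ∨ z = x ∨ z = y ∨ z = x * y) {b0 : (T : Subgroup L)} (hb : b0 ∈ B)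
    (hb' : b0.1 ∉ H.A) : ∃ (s : Mon P) (hs : Δ s ∈ (T : Subgroup L)), ⟨_, hs⟩ ∈ B ∧ Two (ρ (pw s)) ∧
      ∀ x ∈ B, x.1 ∉ H.A → x.1 * (Δ s)⁻¹ ∈ H.A := by
  have hA := H.A_le hT
  have dB : ∀ s (hs : Δ s ∈ (T : Subgroup L)), ⟨_, hs⟩ ∈ B → ∀ y,
      (⟨H.δ (ρ (pw s) y - y), hA (H.δ_mem _)⟩ : (T : Subgroup L)) ∈ B := fun s hs h y => by
    convert mul_mem h (hB.conj_mem _ (inv_mem h) ⟨H.δ y, hA (H.δ_mem _)⟩) using 1
    exact Subtype.ext (by simp [H.δ_sub, ← H.conj_δ, mul_assoc])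
  have K : ∀ s (hs : Δ s ∈ (T : Subgroup L)), ⟨_, hs⟩ ∈ B → s.π ≠ 1 → (∀ j, s.π (s.π j) = j) →
      P.Exc ∧ ∀ j, s.π j ≠ j := fun s hs h h1 h2 =>
    quad hn (pw s) h2 (fun e => h1 (pw_eq_one.1 e)) fun y => H.δ_inj (by
      rw [← H.conj_δ, mul_inv_eq_iff_eq_mul]
      exact congrArg Subtype.val (hc _ h _ (dB s hs h y)))
  obtain ⟨b, hb, hb', hb2⟩ : ∃ b ∈ B, b.1 ∉ H.A ∧ b.1 * b.1 ∈ H.A := by
    obtain ⟨k, hk⟩ := T.isPGroup' b0
    replace hk : (b0 ^ 2 ^ k).1 ∈ H.A := by rw [hk]; exact one_mem _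
    induction k generalizing b0 with
    | zero => exact absurd (by simpa using hk) hb'
    | succ k ih =>
      by_cases h : b0.1 * b0.1 ∈ H.A
      · exact ⟨b0, hb, hb', h⟩
      · exact ih (mul_mem hb hb) h (by rwa [← pow_two, ← pow_mul, ← pow_succ'])
  have inv : ∀ {s : Mon P}, Δ s * Δ s ∈ H.A → ∀ j, s.π (s.π j) = j := fun h j =>
    DFunLike.congr_fun (H.map_mem_A.1 (by rwa [map_mul])) j
  obtain ⟨_, hs⟩ := b
  obtain ⟨s, rfl⟩ := hT hs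
  obtain ⟨E, hf⟩ := K s hs hb (mt H.map_mem_A.2 hb') (inv hb2)
  obtain ⟨z, hz, zu, -, -, zW, zb⟩ := exists_z ((T.comapOfKerIsPGroup Δ H.isP_kerΔ hT).mapSurjective (pw_surj hn))
  obtain ⟨a, ha⟩ : ∃ i, z i ≠ i := by
    by_contra! H
    simpa [Fin.ext_iff] using zu ⟨0, by omega⟩ ⟨1, by omega⟩ (H _) (H _)
  have sW : swap a (z a) ∈ P.W :=
    zW (mem_centralizer_singleton_iff.2 (Equiv.ext fun w => (base_comm (swap_mem_base hz a) w).symm))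
  obtain ⟨t, ht, e⟩ := zb _ sW (swap_mem_base hz a)
  have ht : Δ t ∈ (T : Subgroup L) := ht
  have e : t.π = swap a (z a) := congrArg Subtype.val e
  have R : ∀ s (hs : Δ s ∈ (T : Subgroup L)), ⟨_, hs⟩ ∈ B → Two (ρ (pw s)) → ∀ x ∈ B, x ^ 2 = 1 → x.1 ∈ H.A := by
    rintro s hs h ⟨y1, y2, e1, e2, e3, e4, e5⟩ x hx hx2
    rcases hr E _ (dB s hs h y1) _ (dB s hs h y2) x hx (Subtype.ext (by simp [← H.δ_nsmul, e1, H.δ_zero]))
      (Subtype.ext (by simp [← H.δ_nsmul, e2, H.δ_zero])) hx2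
      (fun e => e3 (H.δ_inj ((congrArg Subtype.val e).trans H.δ_zero.symm)))
      (fun e => e4 (H.δ_inj ((congrArg Subtype.val e).trans H.δ_zero.symm)))
      (fun e => e5 (H.δ_inj (congrArg Subtype.val e))) with rfl | rfl | rfl | rfl
    exacts [one_mem _, H.δ_mem _, H.δ_mem _, mul_mem (H.δ_mem _) (H.δ_mem _)]
  have K2 : ∀ s (hs : Δ s ∈ (T : Subgroup L)), ⟨_, hs⟩ ∈ B → s.π ≠ 1 → (∀ j, s.π (s.π j) = j) → s.π a = z a := by
    intro s hs h h1 h2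
    by_contra h3
    obtain ⟨c1, c2, c3, c4⟩ := E.calc s t ha.symm e h2 (K s hs h h1 h2).2 h3
    have hc' : Δ (s * (t * s * t⁻¹)) ∈ (T : Subgroup L) := by
      simp only [map_mul, map_inv]; exact mul_mem hs (mul_mem (mul_mem ht hs) (inv_mem ht))
    have hcB : (⟨_, hc'⟩ : (T : Subgroup L)) ∈ B := by
      convert mul_mem h (hB.conj_mem _ h ⟨_, ht⟩) using 1
      exact Subtype.ext (by simp)
    have := R _ hc' hcB (E.two ha.symm sW (pw _) c2 c3 c1) _ hcB (Subtype.ext (by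
      change Δ _ ^ 2 = 1
      rw [pow_two, ← map_mul]
      exact (H.ker _).2 ⟨Equiv.ext c2, _, fun j => c4 j a⟩))
    rw [H.map_mem_A.1 this] at c1
    exact ha c1.symm
  have s1 := K2 s hs hb (mt H.map_mem_A.2 hb') (inv hb2)
  have two := E.two ha.symm sW (pw s) (inv hb2) hf s1
  refine ⟨s, hs, hb, two, fun x hx hx' => ?_⟩
  obtain ⟨_, hx1⟩ := x
  obtain ⟨r, rfl⟩ := hT hx1
  have r2 := inv (R s hs hb two _ (mul_mem hx hx) (by rw [← pow_two, ← pow_mul]; exact h4 E _ hx))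
  have r1 := K2 r hx1 hx (mt H.map_mem_A.2 hx') r2
  have r3 := (K r hx1 hx (mt H.map_mem_A.2 hx') r2).2
  rw [← map_inv, ← map_mul, H.map_mem_A, Mon.mul_π, Mon.inv_π, mul_inv_eq_one]
  obtain ⟨c, d, ac, ad, bc, bd, cd, -⟩ := E.pts ha.symm (swap_mem ha.symm sW)
  have en := enum_four E.1 ha.symm ac ad bc bd cd
  have key : ∀ π : Perm (Fin n), (∀ j, π (π j) = j) → (∀ j, π j ≠ j) → π a = z a → π (z a) = a ∧ π c = d ∧ π d = c := by
    intro π h1 h2 h3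
    have h4 : π (z a) = a := by rw [← h3, h1]
    have h5 : π c = d := by
      rcases en (π c) with e | e | e | e
      · exact absurd (π.injective (e.trans h4.symm)) bc.symm
      · exact absurd (π.injective (e.trans h3.symm)) ac.symm
      · exact absurd e (h2 c)
      · exact e
    exact ⟨h4, h5, by rw [← h5, h1]⟩
  have k1 := key _ r2 r3 r1
  have k2 := key _ (inv hb2) hf s1
  ext1 j
  rcases en j with rfl | rfl | rfl | rfl <;> simp only [r1, s1, k1, k2]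

theorem char_A (hn : 3 ≤ n) (α : MulAut (T : Subgroup L)) (x : (T : Subgroup L)) (hx : x.1 ∈ H.A) : (α x).1 ∈ H.A := by
  have hA := H.A_le hT
  have hN := H.normal_A hT
  have key : ∀ (γ : MulAut (T : Subgroup L)) {b0 : (T : Subgroup L)}, (γ.symm b0).1 ∈ H.A → b0.1 ∉ H.A →
      ∃ (s : Mon P) (hs : Δ s ∈ (T : Subgroup L)), (γ.symm ⟨_, hs⟩).1 ∈ H.A ∧ Two (ρ (pw s)) ∧
      ∀ x, (γ.symm x).1 ∈ H.A → x.1 ∉ H.A → x.1 * (Δ s)⁻¹ ∈ H.A := fun γ b0 h1 h2 => by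
    refine H.nab hT hn ((H.A.subgroupOf T).comap γ.symm.toMonoidHom) (fun x hx y hy => γ.symm.injective ?_)
      (fun E x hx => γ.symm.injective ?_) (fun E x hx y hy z hz x2 y2 z2 x1 y1 xy => ?_) h1 h2
    · obtain ⟨x', e⟩ := H.mem_A.1 hx
      obtain ⟨y', e'⟩ := H.mem_A.1 hy
      change _ = (γ.symm x).1 at e
      change _ = (γ.symm y).1 at e'
      exact Subtype.ext (by simp [← e, ← e', ← H.δ_add, add_comm])
    · obtain ⟨x', e⟩ := H.mem_A.1 hx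
      change _ = (γ.symm x).1 at e
      exact Subtype.ext (by simp [← e, ← H.δ_nsmul, E.four, H.δ_zero])
    · obtain ⟨x', e1⟩ := H.mem_A.1 hx
      obtain ⟨y', e2⟩ := H.mem_A.1 hy
      obtain ⟨z', e3⟩ := H.mem_A.1 hz
      change _ = (γ.symm x).1 at e1
      change _ = (γ.symm y).1 at e2
      change _ = (γ.symm z).1 at e3
      have sq : ∀ {x x'}, H.δ x' = (γ.symm x).1 → x ^ 2 = 1 → 2 • x' = 0 := fun e h => H.δ_inj (by
        rw [H.δ_nsmul, e, ← coe_pow, ← map_pow, h, map_one, H.δ_zero]; rfl)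
      have eq : ∀ {x x' y y'}, H.δ x' = (γ.symm x).1 → H.δ y' = (γ.symm y).1 → x' = y' → x = y := fun e e' h =>
        γ.symm.injective (Subtype.ext (by rw [← e, ← e', h]))
      have e0 : H.δ 0 = (γ.symm 1).1 := by rw [H.δ_zero, map_one]; rfl
      exact (E.rank (sq e1 x2) (sq e2 y2) (sq e3 z2) (mt (eq e1 e0) x1) (mt (eq e2 e0) y1) (mt (eq e1 e2) xy)).imp
        (eq e3 e0) (Or.imp (eq e3 e1) (Or.imp (eq e3 e2) (eq e3 (by rw [H.δ_add, e1, e2, map_mul]; rfl))))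
  by_contra h
  obtain ⟨s, hs, h1, ⟨y1, y2, -, -, e3, e4, e5⟩, -⟩ := key α (by simpa using hx) h
  have nc : ∀ y, (α.symm ⟨H.δ y, hA (H.δ_mem y)⟩).1 ∈ H.A → ρ (pw s) y = y := fun y hy => H.δ_inj (by
    obtain ⟨x', e⟩ := H.mem_A.1 hy
    obtain ⟨y', e'⟩ := H.mem_A.1 h1
    have : α.symm ⟨_, hs⟩ * α.symm ⟨H.δ y, hA (H.δ_mem y)⟩ = α.symm ⟨H.δ y, hA (H.δ_mem y)⟩ * α.symm ⟨_, hs⟩ :=
      Subtype.ext (by simp [← e, ← e', ← H.δ_add, add_comm])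
    rw [← map_mul, ← map_mul] at this
    rw [← H.conj_δ, mul_inv_eq_iff_eq_mul]
    exact congrArg Subtype.val (α.symm.injective this))
  have n1 := mt (nc y1) (sub_ne_zero.1 e3)
  have n2 := mt (nc y2) (sub_ne_zero.1 e4)
  obtain ⟨s', -, -, -, h2⟩ := key α.symm (by simpa using H.δ_mem y1) n1
  have h3 := mul_mem (h2 _ (by simpa using H.δ_mem y1) n1) (inv_mem (h2 _ (by simpa using H.δ_mem y2) n2))
  have h4 := nc (y1 - y2) (by
    convert h3 using 1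
    rw [show (⟨H.δ (y1 - y2), hA (H.δ_mem _)⟩ : (T : Subgroup L)) = ⟨H.δ y1, hA (H.δ_mem _)⟩ * (⟨H.δ y2, hA (H.δ_mem _)⟩)⁻¹
      from Subtype.ext (H.δ_sub _ _)]
    simp)
  rw [map_sub] at h4
  exact e5 (sub_eq_sub_iff_sub_eq_sub.1 h4)

omit hT in
include H in
theorem conj (k : L) : IsModel ((MulAut.conj k).toMonoidHom.comp Δ) where
  ker m := by rw [← H.ker]; simp
  syl := by
    obtain ⟨T, hT⟩ := H.syl
    exact ⟨k • T, by rw [MonoidHom.range_comp]; exact map_mono hT⟩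
  norm g hg := by
    obtain ⟨w, hw⟩ := H.norm (k⁻¹ * g * k) fun m hm => (hg m hm).imp fun m' h => ⟨h.1, by
      have := h.2
      simp only [MulEquiv.toMonoidHom_eq_coe, MonoidHom.comp_apply, MonoidHom.coe_coe, MulAut.conj_apply] at this
      calc _ = k⁻¹ * (g * (k * Δ m * k⁻¹) * g⁻¹) * k := by group
        _ = _ := by rw [this]; group⟩
    refine ⟨w, fun m hm => ?_⟩
    simp only [MulEquiv.toMonoidHom_eq_coe, MonoidHom.comp_apply, MonoidHom.coe_coe, MulAut.conj_apply, ← hw m hm]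
    group

end IsModel

/-- `α` preserves the fusion of `L` in `T` -/
def FusPres (T : Subgroup L) (α : MulAut T) : Prop :=
  ∀ Q ≤ T, ∀ g : L, (∀ x ∈ Q, g * x * g⁻¹ ∈ T) →
    ∃ h : L, ∀ x (hx : x ∈ T) (hx' : g * x * g⁻¹ ∈ T), x ∈ Q → (α ⟨_, hx'⟩ : L) = h * α ⟨x, hx⟩ * h⁻¹

theorem IsModel.rigid [Finite L] (H : IsModel Δ) (hn : 3 ≤ n) (T : Sylow 2 L) (α : MulAut (T : Subgroup L))
    (ho : Odd (orderOf α)) (hf : FusPres _ α) : α = 1 := by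
  wlog hT : (T : Subgroup L) ≤ Δ.range generalizing Δ
  · obtain ⟨T', hT'⟩ := H.syl
    obtain ⟨k, rfl⟩ := MulAction.exists_smul_eq L T' T
    exact this (H.conj k) (by rw [MonoidHom.range_comp]; exact map_mono hT')
  have hA := H.A_le hT
  choose a0 ha0 using fun y => H.mem_A.1 (H.char_A hT hn α ⟨H.δ y, hA (H.δ_mem y)⟩ (H.δ_mem y))
  let a1 : P.Ab →+ P.Ab := AddMonoidHom.mk' a0 fun y z => H.δ_inj (by
    rw [H.δ_add, ha0, ha0, ha0, ← coe_mul, ← map_mul]; congr 2; exact Subtype.ext (H.δ_add _ _))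
  let a : P.Ab ≃+ P.Ab := AddEquiv.ofBijective a1 (Finite.injective_iff_bijective.1 fun y z h => by
    have := congrArg H.δ h
    change H.δ (a0 y) = H.δ (a0 z) at this
    rw [ha0, ha0] at this
    exact H.δ_inj (congrArg Subtype.val (α.injective (Subtype.ext this))))
  replace ha0 : ∀ y, H.δ (a y) = (α ⟨H.δ y, hA (H.δ_mem y)⟩).1 := ha0
  have hit : ∀ (k : ℕ) y, H.δ (a^[k] y) = ((α ^ k) ⟨H.δ y, hA (H.δ_mem y)⟩).1 := fun k y => by
    induction k with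
    | zero => rfl
    | succ k ih => rw [Function.iterate_succ_apply', ha0, pow_succ', MulAut.mul_apply]; congr 2; exact Subtype.ext ih
  have cj : ∀ t (ht : Δ t ∈ (T : Subgroup L)) t', Δ t' = (α ⟨_, ht⟩).1 → ∀ y, a (ρ (pw t) y) = ρ (pw t') (a y) :=
    fun t ht t' e y => H.δ_inj (by
      rw [← H.conj_δ, e, ha0, ha0, ← coe_inv, ← coe_mul, ← coe_mul, ← map_inv, ← map_mul, ← map_mul]
      congr 2; exact Subtype.ext (H.conj_δ _ _).symm)
  have ha := aut_eq_one hn ((T.comapOfKerIsPGroup Δ H.isP_kerΔ hT).mapSurjective (pw_surj hn)) a ho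
    (fun y => H.δ_inj (by rw [hit, pow_orderOf_eq_one]; rfl)) (fun w => by
      obtain ⟨m, rfl⟩ := pw_surj hn w
      obtain ⟨h, hh⟩ := hf _ hA (Δ m) fun x hx => by
        obtain ⟨y, rfl⟩ := H.mem_A.1 hx
        rw [H.conj_δ]; exact hA (H.δ_mem _)
      have h1 : ∀ y, h * H.δ (a y) * h⁻¹ = H.δ (a (ρ (pw m) y)) := fun y => by
        rw [ha0, ← hh _ _ (by rw [H.conj_δ]; exact hA (H.δ_mem _)) (H.δ_mem y), ha0]
        congr 2; exact Subtype.ext (H.conj_δ _ _)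
      obtain ⟨w, hw⟩ := H.norm h fun m' hm' => by
        obtain ⟨y, e⟩ := H.exists_δ hm'
        obtain ⟨y, rfl⟩ := a.surjective y
        obtain ⟨m'', h2, h3⟩ := H.δ_mem (a (ρ (pw m) y))
        exact ⟨m'', pw_eq_one.1 h2, by rw [← e, h1, h3]⟩
      refine ⟨pw w, fun y => H.δ_inj ?_⟩
      obtain ⟨m', h2, h3⟩ := H.δ_mem (a y)
      rw [← h1, ← H.conj_δ, ← h3, hw _ (pw_eq_one.1 h2), map_mul, map_mul, map_inv]) (by
      rintro _ ⟨t, ht, rfl⟩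
      obtain ⟨t', e⟩ := hT (α ⟨_, ht⟩).2
      exact ⟨pw t', ⟨t', show Δ t' ∈ (T : Subgroup L) from e ▸ (α ⟨_, ht⟩).2, rfl⟩, cj t ht t' e⟩)
  ext1 ⟨_, ht⟩
  obtain ⟨t, rfl⟩ := hT ht
  obtain ⟨t', e⟩ := hT (α ⟨_, ht⟩).2
  have h1 : (t⁻¹ * t').π = 1 := pw_eq_one.1 (ρ_faithful hn _ fun y => by
    have := cj t ht t' e y
    rw [ha, ha] at this
    rw [map_mul, ρ_mul, ← this, ← ρ_mul, map_inv, inv_mul_cancel, ρ_one])
  obtain ⟨y, hy⟩ := H.exists_δ h1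
  have h2 : α ⟨_, ht⟩ = ⟨_, ht⟩ * ⟨H.δ y, hA (H.δ_mem y)⟩ := Subtype.ext (by simp [hy, ← e])
  have h3 : α ⟨H.δ y, hA (H.δ_mem y)⟩ = ⟨H.δ y, hA (H.δ_mem y)⟩ := Subtype.ext (by rw [← ha0, ha])
  have h4 : ∀ k : ℕ, (α ^ k) ⟨_, ht⟩ = ⟨_, ht⟩ * ⟨H.δ y, hA (H.δ_mem y)⟩ ^ k := fun k => by
    induction k with
    | zero => simp
    | succ k ih => rw [pow_succ', MulAut.mul_apply, ih, map_mul, map_pow, h2, h3, pow_succ', mul_assoc]
  have h5 := h4 (orderOf α)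
  rw [pow_orderOf_eq_one, MulAut.one_apply, left_eq_mul] at h5
  obtain ⟨k, hk⟩ := T.isPGroup' ⟨H.δ y, hA (H.δ_mem y)⟩
  rw [h2, orderOf_eq_one_iff.1 (Nat.eq_one_of_dvd_coprimes (Nat.Coprime.pow_right k ho.coprime_two_right)
    (orderOf_dvd_of_pow_eq_one h5) (orderOf_dvd_of_pow_eq_one hk)), mul_one, MulAut.one_apply]

end Cfsg.Lib.PSLF
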