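import Cfsg.Agent.Lib.PSLF.Vec3
import Cfsg.Agent.Lib.Alt.SylNorm

/-! An odd order automorphism of the diagonal part normalising the Weyl group and a Sylow 2-subgroup of it is trivial. -/
set_option autoImplicit false

namespace Cfsg.Lib.PSLF
open Equiv Subgroup Cfsg.Lib.Alt.SylNorm

variable {n : ℕ}

theorem fix_of_cyc {A : Type*} [AddCommGroup A] {e N : ℕ} (hA : ∀ y : A, 2 ^ e • y = 0) (hN : Odd N) (a : A →+ A)
    (ha : ∀ y, a^[N] y = y) {y b : A} {t : ℕ} (hb : a b = b) (h : a y = b + t • y) : a y = y := by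
  have h1 : a (a y - y) = t • (a y - y) := by
    rw [map_sub, smul_sub]
    conv_lhs => rw [h, map_add, hb, map_nsmul]
    conv_rhs => rw [← add_sub_add_left_eq_sub _ _ b, ← h]
    rw [h]
  have h2 : ∀ k, ∃ s, a^[k] y = y + s • (a y - y) ∧ (s % 2 = k % 2 ∨ (t % 2 = 0 ∧ (k ≠ 0 → s % 2 = 1))) ∧
      (t % 2 = 0 → k ≠ 0 → s % 2 = 1) := fun k => by
    induction k with
    | zero => exact ⟨0, by simp, by simp, by simp⟩
    | succ k ih =>
      obtain ⟨s, h3, h4, h5⟩ := ih
      refine ⟨1 + s * t, ?_, ?_, fun h _ => ?_⟩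
      · rw [Function.iterate_succ_apply', h3, map_add, map_nsmul, h1, add_smul, mul_smul, one_smul]; abel
      · rcases Nat.mod_two_eq_zero_or_one t with ht | ht
        · exact Or.inr ⟨ht, fun _ => by simp [Nat.add_mod, Nat.mul_mod, ht]⟩
        · left
          rcases h4 with h4 | h4
          · simp [Nat.add_mod, Nat.mul_mod, ht, h4, add_comm]
          · omega
      · simp [Nat.add_mod, Nat.mul_mod, h]
  obtain ⟨s, h3, h4, -⟩ := h2 N
  have hs : Odd s := by
    rw [Nat.odd_iff] at hN ⊢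
    rcases h4 with h4 | h4
    · omega
    · exact h4.2 (by omega)
  rw [ha, left_eq_add] at h3
  have h5 := addOrderOf_dvd_of_nsmul_eq_zero h3
  have h6 := addOrderOf_dvd_of_nsmul_eq_zero (hA (a y - y))
  rw [← sub_eq_zero, ← AddMonoid.addOrderOf_eq_one_iff]
  exact Nat.eq_one_of_dvd_coprimes (Nat.Coprime.pow_right e hs.coprime_two_right) h5 h6

theorem base_ind {Ω : Type*} [Fintype Ω] [DecidableEq Ω] {z : Perm Ω} (hz : ∀ w, z (z w) = w) (H : Subgroup (Perm Ω))
    (h : ∀ y, swap y (z y) ∈ H) : base z hz ≤ H := by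
  intro σ hσ
  induction hk : σ.support.card using Nat.strong_induction_on generalizing σ with
  | _ k ih =>
    by_cases h1 : σ = 1
    · rw [h1]; exact one_mem H
    obtain ⟨y, hy⟩ : ∃ y, σ y ≠ y := by
      by_contra! K
      exact h1 (Equiv.ext K)
    have h2 := (hσ y).resolve_left hy
    have h3 := ih _ (hk ▸ Perm.card_support_swap_mul hy) (mul_mem (h2 ▸ swap_mem_base hz y) hσ) rfl
    simpa only [swap_mul_self_mul] using mul_mem (show swap y (σ y) ∈ H from h2 ▸ h y) h3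

namespace Par
variable {P : Par n}

theorem exists_z (T : Sylow 2 P.W) : ∃ (z : Perm (Fin n)) (hz : ∀ w, z (z w) = w), (∀ a b, z a = a → z b = b → a = b) ∧
    (∀ t ∈ (T : Subgroup P.W), t.1 ∈ centralizer {z}) ∧ (P.u = 1 ∧ P.φ = 1 ∨ z = P.φ) ∧
    ∃ h : centralizer {z} ≤ P.W, ∀ σ (hσ : σ ∈ P.W), σ ∈ base z hz → (⟨σ, hσ⟩ : P.W) ∈ (T : Subgroup P.W) := by
  rcases P.cs' with ⟨hu, hφ⟩ | ⟨-, -, -, hφ⟩
  · have hW : ∀ w, w ∈ P.W := fun w => mem_W.2 fun j => by rw [hφ]; rfl
    obtain ⟨z, hz, h1, h2, h3⟩ := exists_pairing (T.mapSurjective (f := P.W.subtype) fun w => ⟨⟨w, hW w⟩, rfl⟩)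
    refine ⟨z, hz, h1, fun t ht => mem_centralizer_singleton_iff.2 (Equiv.ext fun w => (h2 _ ⟨t, ht, rfl⟩ w).symm),
      Or.inl ⟨hu, hφ⟩, fun w _ => hW w, fun σ hσ h => ?_⟩
    obtain ⟨t, ht, rfl⟩ := h3 h
    exact ht
  · refine ⟨P.φ, P.hφ, hφ, fun t _ => t.2, Or.inr rfl, le_rfl, fun σ hσ h => ?_⟩
    have : ((base P.φ P.hφ).subgroupOf P.W).Normal := ⟨fun σ hσ t x => by
      rcases hσ (t.1⁻¹ x) with h | h
      · exact Or.inl (by simp [show σ.1 (t.1.symm x) = _ from h])
      · exact Or.inr (by simp [show σ.1 (t.1.symm x) = _ from h, comm])⟩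
    exact IsPGroup.le_sylow_of_normal (N := (base P.φ P.hφ).subgroupOf P.W)
      (fun σ => ⟨1, Subtype.ext (Subtype.ext (by simpa [pow_two] using base_sq (hz := P.hφ) σ.2))⟩) T h

theorem aut_eq_one (hn : 3 ≤ n) (T : Sylow 2 P.W) (a : P.Ab ≃+ P.Ab) {N : ℕ} (hN : Odd N) (ha : ∀ y, a^[N] y = y)
    (h1 : ∀ w : P.W, ∃ w', ∀ y, a (ρ w y) = ρ w' (a y))
    (h2 : ∀ w ∈ (T : Subgroup P.W), ∃ w' ∈ (T : Subgroup P.W), ∀ y, a (ρ w y) = ρ w' (a y)) (y : P.Ab) : a y = y := by
  have inj : ∀ w w' : P.W, (∀ y, ρ w y = ρ w' y) → w = w' := fun w w' h =>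
    mul_inv_eq_one.1 (ρ_faithful hn _ fun y => by rw [ρ_mul, h, ← ρ_mul, mul_inv_cancel, ρ_one])
  choose β0 hβ using h1
  have uq : ∀ w w', (∀ y, a (ρ w y) = ρ w' (a y)) → β0 w = w' := fun w w' h => inj _ _ fun y => by
    obtain ⟨y, rfl⟩ := a.surjective y
    rw [← hβ, h]
  let β : P.W →* P.W := MonoidHom.mk' β0 fun w w' => uq _ _ fun y => by rw [ρ_mul, hβ, hβ, ρ_mul]
  replace hβ : ∀ w y, a (ρ w y) = ρ (β w) (a y) := hβ
  have hT : ∀ w ∈ (T : Subgroup P.W), β w ∈ (T : Subgroup P.W) := fun w hw => by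
    obtain ⟨w', h, h'⟩ := h2 w hw
    rwa [show β w = w' from uq w w' h']
  have hit : ∀ k w y, a^[k] (ρ w y) = ρ (β^[k] w) (a^[k] y) := fun k w y => by
    induction k with
    | zero => rfl
    | succ k ih => rw [Function.iterate_succ_apply', ih, hβ, Function.iterate_succ_apply', Function.iterate_succ_apply']
  have hβN : ∀ w, β^[N] w = w := fun w => inj _ _ fun y => by have := hit N w y; rwa [ha, ha, eq_comm] at this
  obtain ⟨z, hz, zu, zT, zc, zW, zb⟩ := exists_z T
  have sW : ∀ y, swap y (z y) ∈ P.W := fun y =>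
    zW (mem_centralizer_singleton_iff.2 (Equiv.ext fun w => (base_comm (swap_mem_base hz y) w).symm))
  let f : {x // x < z x} → P.W := fun p => ⟨_, sW p⟩
  have fmin : ∀ y, swap (min y (z y)) (z (min y (z y))) = swap y (z y) := fun y => by
    rcases min_choice y (z y) with h | h <;> rw [h]
    rw [hz, swap_comm]
  have finj : Function.Injective f := fun p q h => by
    have h := DFunLike.congr_fun (congrArg Subtype.val h) p.1
    simp only [f, swap_apply_left, swap_apply_def] at h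
    split_ifs at h with e1 e2
    · exact Subtype.ext e1
    · exact absurd (q.2.trans_eq e2.symm) (h ▸ p.2).not_gt
    · exact absurd h p.2.ne'
  have fc : ∀ (w : centralizer {z}) p, inclusion zW w * f p * (inclusion zW w)⁻¹ = f (hom z hz w p) := fun w p =>
    Subtype.ext (by
      change w.1 * swap _ _ * w.1⁻¹ = swap (hom z hz w p).1 (z (hom z hz w p).1)
      rw [hom_apply, fmin, ← swap_apply_apply, comm_of_mem z w.2])
  have hσ : ∀ p, ∃ q, β (f p) = f q := fun p => by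
    have h3 : β (f p) * β (f p) = 1 := by rw [← map_mul, show f p * f p = 1 from Subtype.ext (swap_mul_self _ _), map_one]
    obtain ⟨b, c, bc, h4⟩ := isSwap_of_rf (β (f p)) (fun j => DFunLike.congr_fun (congrArg Subtype.val h3) j)
      ((rf_swap hn p.2.ne (sW p)).conj a (hβ _))
    have h5 := comm_of_mem z (zT _ (hT _ (zb _ (sW p) (swap_mem_base hz p))))
    change ∀ w, z ((β (f p)).1 w) = (β (f p)).1 (z w) at h5
    rw [h4] at h5
    have h6 : z b = c := by
      by_contra h6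
      have h7 := h5 b
      rw [swap_apply_left] at h7
      by_cases h8 : z b = b
      · rw [h8, swap_apply_left] at h7
        exact bc (zu _ _ h8 h7)
      · rw [swap_apply_of_ne_of_ne h8 h6] at h7
        exact bc (z.injective h7).symm
    subst h6
    exact ⟨⟨_, min_lt z hz bc.symm⟩, Subtype.ext (h4.trans (fmin b).symm)⟩
  choose σ0 hσ using hσ
  have βinj : Function.Injective β := fun w w' h => by
    obtain ⟨k, hk⟩ := hN
    rw [← hβN w, ← hβN w', hk, Function.iterate_add_apply, Function.iterate_add_apply, Function.iterate_one, h]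
  let σ : Perm {x // x < z x} := Equiv.ofBijective σ0 (Finite.injective_iff_bijective.1 fun p q h =>
    finj (βinj (by rw [hσ, hσ, h])))
  replace hσ : ∀ p, β (f p) = f (σ p) := hσ
  have σN : σ ^ N = 1 := Equiv.ext fun p => finj (by
    have : ∀ k, β^[k] (f p) = f ((σ ^ k) p) := fun k => by
      induction k with
      | zero => rfl
      | succ k ih => rw [Function.iterate_succ_apply', ih, hσ, pow_succ', Perm.mul_apply]
    rw [← this, hβN]; rfl)
  let T0 := T.comapOfInjective (inclusion zW) (inclusion_injective _) fun t ht => ⟨⟨t.1, zT t ht⟩, rfl⟩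
  have σ1 : σ = 1 := perm_eq_one (T0.mapSurjective (hom_surjective z hz)) σ
    (hN.of_dvd_nat (orderOf_dvd_of_pow_eq_one σN)) (mem_normalizer_fintype (by
      rintro _ ⟨t, ht, rfl⟩
      have h3 := hT _ ht
      refine ⟨⟨_, zT _ h3⟩, h3, Equiv.ext fun p => finj ?_⟩
      rw [← fc, Perm.mul_apply, Perm.mul_apply, ← hσ, ← fc, map_mul, map_mul, map_inv, hσ]
      simp only [Perm.coe_inv, apply_symm_apply]
      rfl))
  simp only [σ1, Perm.one_apply] at hσ
  have βs : ∀ y, β ⟨_, sW y⟩ = ⟨_, sW y⟩ := fun y => by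
    by_cases h : z y = y
    · rw [show (⟨_, sW y⟩ : P.W) = 1 from Subtype.ext (by simp [h]; rfl), map_one]
    · simpa only [f, fmin] using hσ ⟨_, min_lt z hz h⟩
  have βb : ∀ c : P.W, c.1 ∈ base z hz → β c = c := fun c hc => by
    obtain ⟨c', h, e⟩ := base_ind hz ((β.eqLocus (MonoidHom.id _)).map P.W.subtype) (fun y => ⟨_, βs y, rfl⟩) hc
    exact Subtype.ext e ▸ h
  have β1 : ∀ w : P.W, w.1 ∈ centralizer {z} → β w = w := fun w hw => by
    have h3 : ∀ p, (w⁻¹ * β w) * f p = f p * (w⁻¹ * β w) := fun p => by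
      have h4 := fc ⟨w.1, hw⟩ p
      change w * f p * w⁻¹ = _ at h4
      have h5 := congrArg β h4
      rw [map_mul, map_mul, map_inv, hσ, hσ, ← h4] at h5
      calc _ = w⁻¹ * (β w * f p * (β w)⁻¹) * β w := by group
        _ = _ := by rw [h5]; group
    have h4 : ∀ x, z x ≠ x → (w⁻¹ * β w).1 x = x ∨ (w⁻¹ * β w).1 x = z x := fun x hx => by
      have h5 := DFunLike.congr_fun (congrArg Subtype.val (h3 ⟨_, min_lt z hz hx⟩)) x
      simp only [f, fmin, coe_mul, Perm.mul_apply, swap_apply_left] at h5 ⊢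
      by_contra! K
      rw [swap_apply_of_ne_of_ne K.1 K.2] at h5
      exact hx ((β w).1.injective ((w⁻¹).1.injective h5))
    have h5 : (w⁻¹ * β w).1 ∈ base z hz := fun x => by
      by_cases hx : z x = x
      · left
        obtain ⟨x', rfl⟩ := (w⁻¹ * β w).1.surjective x
        by_cases h6 : z x' = x'
        · rw [zu _ _ hx h6, zu _ _ hx h6]
        · rcases h4 x' h6 with e | e <;> rw [e] at hx
          · exact absurd hx h6
          · exact absurd (z.injective hx) h6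
      · exact h4 x hx
    have h6 : ∀ k, β^[k] w = w * (w⁻¹ * β w) ^ k := fun k => by
      induction k with
      | zero => simp
      | succ k ih => rw [Function.iterate_succ_apply', ih, map_mul, map_pow, βb _ h5, pow_succ', ← mul_assoc, mul_inv_cancel_left]
    have h7 := h6 N
    obtain ⟨k, hk⟩ := hN
    rw [hβN, hk, pow_succ, pow_mul, pow_two, show (w⁻¹ * β w) * (w⁻¹ * β w) = 1 from Subtype.ext (base_sq h5)] at h7
    simpa using h7.symm
  have cyc : ∀ {y b : P.Ab} {t : ℕ}, a b = b → a y = b + t • y → a y = y := fun hb h =>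
    fix_of_cyc pow_smul_eq hN a.toAddMonoidHom ha hb h
  have k1 : ∀ j, a (P.g (z j) j) = P.g (z j) j := fun j => by
    by_cases h : z j = j
    · rw [h, g_self, map_zero]
    obtain ⟨l, l1, l2⟩ := exists_third hn j (z j)
    have e : P.g (z j) j = ρ ⟨_, sW j⟩ (P.g j l) - P.g j l := by
      rw [ρ_g]; simp only [swap_apply_left, swap_apply_of_ne_of_ne l1 l2, g_sub]
    obtain ⟨t, ht⟩ := d_swap_eq (Ne.symm h) (sW j) (a (P.g j l))
    exact cyc (map_zero a) (by rw [zero_add, ← ht, e, map_sub, hβ, βs])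
  have k2 : ∀ i j l, z i ≠ i → z j ≠ j → j ≠ i → j ≠ z i → l ≠ i → l ≠ z i → l ≠ j → l ≠ z j →
      a (P.g j i) = P.g j i := fun i j l hi hj e1 e2 l1 l2 l3 l4 => by
    have e3 : i ≠ z j := fun e => e2 (by rw [e, hz])
    have e4 : z i ≠ z j := z.injective.ne e1.symm
    have hw : swap i j * swap (z i) (z j) ∈ centralizer {z} := by
      rw [mem_centralizer_singleton_iff, eq_comm, ← mul_inv_eq_iff_eq_mul]
      have : z * (swap i j * swap (z i) (z j)) * z⁻¹ = (z * swap i j * z⁻¹) * (z * swap (z i) (z j) * z⁻¹) := by group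
      rw [this, ← swap_apply_apply, ← swap_apply_apply, hz, hz]
      exact (Perm.disjoint_swap_swap (by simp [hi, hj, e1.symm, e2.symm, e3.symm, e4])).commute
    have e : P.g j i = ρ ⟨_, zW hw⟩ (P.g i l) - P.g i l := by
      rw [ρ_g]
      simp only [Perm.mul_apply, swap_apply_of_ne_of_ne hi.symm e3, swap_apply_left, swap_apply_of_ne_of_ne l2 l4,
        swap_apply_of_ne_of_ne l1 l3, g_sub]
    obtain ⟨t, s, ht⟩ := d_couple e1.symm hi.symm e3 e2 hj.symm e4 (zW hw) (zc.imp id fun e => by simp [e]) (a (P.g i l))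
    exact cyc (b := s • (P.g (z j) j - P.g (z i) i)) (t := t) (by rw [map_nsmul, map_sub, k1, k1])
      (by rw [add_comm, ← ht, e, map_sub, hβ, β1 _ hw])
  obtain ⟨i, hi⟩ : ∃ i, z i ≠ i := by
    by_contra! H
    simpa [Fin.ext_iff] using zu ⟨0, by omega⟩ ⟨1, by omega⟩ (H _) (H _)
  obtain ⟨c, c1, c2, c3⟩ : ∃ c, c ≠ i ∧ c ≠ z i ∧ ∀ r, z r = r → r = c := by
    by_cases h : ∃ r, z r = r
    · obtain ⟨r, hr⟩ := h
      exact ⟨r, fun e => hi (e ▸ hr), fun e => hi (by rw [e, hz] at hr; exact hr.symm), fun r' h => zu _ _ h hr⟩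
    · obtain ⟨c, c1, c2⟩ := exists_third hn i (z i)
      exact ⟨c, c1, c2, fun r hr => absurd ⟨r, hr⟩ h⟩
  have hi' : P.u = 1 ∨ P.φ i ≠ i := zc.imp And.left fun (e : z = P.φ) => e ▸ hi
  have k3 : ∀ j, ∃ b, ∃ t : ℕ, a b = b ∧ P.g j i = b + t • P.g c i := fun j => by
    by_cases j1 : j = i
    · exact ⟨0, 0, map_zero a, by simp [j1, g_self]⟩
    by_cases j2 : j = z i
    · exact ⟨_, 0, k1 i, by simp [j2]⟩
    by_cases j3 : j = c
    · exact ⟨0, 1, map_zero a, by simp [j3]⟩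
    by_cases j4 : j = z c
    · exact ⟨_, 1, k1 c, by rw [j4, one_smul, ← g_sub (z c) c i]; abel⟩
    · exact ⟨_, 0, k2 i j c hi (fun e => j3 (c3 j e)) j1 j2 c1 c2 (Ne.symm j3) (fun e => j4 (by rw [e, hz])), by simp⟩
  let H : AddSubgroup P.Ab :=
    { carrier := {y | ∃ b, ∃ t : ℕ, a b = b ∧ y = b + t • P.g c i}
      zero_mem' := ⟨0, 0, map_zero a, by simp⟩
      add_mem' := by
        rintro _ _ ⟨b, t, h, rfl⟩ ⟨b', t', h', rfl⟩
        exact ⟨b + b', t + t', by rw [map_add, h, h'], by rw [add_smul]; abel⟩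
      neg_mem' := by
        rintro _ ⟨b, t, h, rfl⟩
        refine ⟨-b, t * (2 ^ P.e - 1), by rw [map_neg, h], ?_⟩
        have := pow_smul_eq (t • P.g c i)
        have h7 : (t * (2 ^ P.e - 1)) • P.g c i + t • P.g c i = 0 := by
          rw [← add_smul, ← this, ← mul_smul, ← Nat.mul_succ, Nat.succ_eq_add_one,
            Nat.sub_add_cancel (Nat.one_le_two_pow (n := P.e)), mul_comm]
        rw [eq_neg_of_add_eq_zero_left h7]; abel }
  have hH : ∀ y, y ∈ H := fun y => by rw [span hi' H k3]; trivial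
  obtain ⟨b, t, h3, h4⟩ := hH (a (P.g c i))
  obtain ⟨b', t', h5, rfl⟩ := hH y
  rw [map_add, h5, map_nsmul, cyc h3 h4]

end Par

end Cfsg.Lib.PSLF
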