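import Mathlib.GroupTheory.Sylow
import Mathlib.GroupTheory.Perm.Sign
import Mathlib.Data.ZMod.Basic
import Mathlib.Algebra.Group.MinimalAxioms
import Mathlib.Tactic.LinearCombination
import Mathlib.Tactic.Ring

/-! Monomial model of a Sylow 2-subgroup of `PSL_n(q)`, `q` odd.
`Par n`: `2^e` is the 2-part of `q - 1` (`q ≡ 1 mod 4`, `φ = 1`, `u = 1`) or of `q² - 1` (`q ≡ 3 mod 4`, `φ` an involution
with at most one fixed point, `u = q = 2^(e-1) - 1` in `ZMod (2^e)`).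
`Mon P`: pairs `(x, π)` standing for the matrix `diag(ζ^x) * P_π` (`P_π e_j = e_{π j}`, `ζ` of order `2^e`) of determinant
one, fixed by the twisted Frobenius map `h ↦ (h (φ i) (φ j))^q`. -/
set_option autoImplicit false

namespace Cfsg.Lib.PSLF
open Equiv

structure Par (n : ℕ) where
  e : ℕ
  u : ZMod (2 ^ e)
  φ : Perm (Fin n)
  hφ : ∀ j, φ (φ j) = j
  cs : (2 ≤ e ∧ u = 1 ∧ φ = 1) ∨ (3 ≤ e ∧ u = 2 ^ (e - 1) - 1 ∧ ∀ a b, φ a = a → φ b = b → a = b)

variable {n : ℕ}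

namespace Par
variable (P : Par n)

abbrev R := ZMod (2 ^ P.e)

/-- the element of order two -/
def h : P.R := 2 ^ (P.e - 1)

/-- an element of order four -/
def k : P.R := 2 ^ (P.e - 2)

theorem two_le : 2 ≤ P.e := by rcases P.cs with h | h <;> omega

instance neZeroPow : NeZero (2 ^ P.e) := ⟨by positivity⟩

theorem pow_ne {j : ℕ} (hj : j < P.e) : (2 : P.R) ^ j ≠ 0 := by
  intro h
  have : ((2 ^ j : ℕ) : P.R) = 0 := by exact_mod_cast h
  rw [ZMod.natCast_eq_zero_iff, Nat.pow_dvd_pow_iff_le_right (by norm_num)] at this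
  omega

theorem pow_eq {j : ℕ} (hj : P.e ≤ j) : (2 : P.R) ^ j = 0 := by
  have : ((2 ^ j : ℕ) : P.R) = 0 := (ZMod.natCast_eq_zero_iff _ _).2 (pow_dvd_pow _ hj)
  exact_mod_cast this

theorem h_ne : P.h ≠ 0 := P.pow_ne (by have := P.two_le; omega)

theorem two_h : 2 * P.h = 0 := by
  have := P.two_le
  rw [h, ← pow_succ']; exact P.pow_eq (by omega)

theorem two_k : 2 * P.k = P.h := by
  have := P.two_le
  rw [h, k, ← pow_succ']; congr 1; omega

theorem h_add : P.h + P.h = 0 := by linear_combination P.two_h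

end Par

@[ext] structure Mon (P : Par n) where
  x : Fin n → P.R
  π : Perm (Fin n)
  comm : ∀ j, π (P.φ j) = P.φ (π j)
  tw : ∀ j, x (P.φ j) = P.u * x j
  det : ∑ j, x j = if Perm.sign π = 1 then 0 else P.h

namespace Mon
variable {P : Par n}

theorem comm' (m : Mon P) (j : Fin n) : m.π⁻¹ (P.φ j) = P.φ (m.π⁻¹ j) := by
  rw [Perm.inv_eq_iff_eq, m.comm]; simp

instance monOne : One (Mon P) := ⟨⟨0, 1, fun _ => rfl, by simp, by simp⟩⟩

instance monMul : Mul (Mon P) := ⟨fun a b => ⟨fun j => a.x j + b.x (a.π⁻¹ j), a.π * b.π,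
  fun j => by simp [a.comm, b.comm], fun j => by rw [a.tw, a.comm', b.tw, mul_add], by
    rw [Finset.sum_add_distrib, Equiv.sum_comp a.π⁻¹ b.x, a.det, b.det, map_mul]
    rcases Int.units_eq_one_or (Perm.sign a.π) with h | h <;>
      rcases Int.units_eq_one_or (Perm.sign b.π) with h' | h' <;> simp [h, h', P.h_add]⟩⟩

instance monInv : Inv (Mon P) := ⟨fun a => ⟨fun j => -a.x (a.π j), a.π⁻¹, a.comm',
  fun j => by rw [a.comm, a.tw, mul_neg], by
    rw [Finset.sum_neg_distrib, Equiv.sum_comp a.π a.x, a.det, Perm.sign_inv]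
    split_ifs
    · simp
    · linear_combination -P.two_h⟩⟩

@[simp] theorem one_x (j : Fin n) : (1 : Mon P).x j = 0 := rfl
@[simp] theorem one_π : (1 : Mon P).π = 1 := rfl
@[simp] theorem mul_x (a b : Mon P) (j : Fin n) : (a * b).x j = a.x j + b.x (a.π⁻¹ j) := rfl
@[simp] theorem mul_π (a b : Mon P) : (a * b).π = a.π * b.π := rfl
@[simp] theorem inv_x (a : Mon P) (j : Fin n) : a⁻¹.x j = -a.x (a.π j) := rfl
@[simp] theorem inv_π (a : Mon P) : a⁻¹.π = a.π⁻¹ := rfl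

instance monGroup : Group (Mon P) := Group.ofLeftAxioms
  (fun a b c => Mon.ext (funext fun j => by simp [add_assoc]) (by simp [mul_assoc]))
  (fun a => Mon.ext (funext fun j => by simp) (by simp))
  (fun a => Mon.ext (funext fun j => by simp) (by simp))

instance monFinite : Finite (Mon P) :=
  Finite.of_injective (fun m : Mon P => (m.x, m.π)) fun _ _ h =>
    Mon.ext (congrArg Prod.fst h) (congrArg Prod.snd h)

/-- the permutation part -/
def pr : Mon P →* Perm (Fin n) := ⟨⟨Mon.π, rfl⟩, fun _ _ => rfl⟩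

@[simp] theorem pr_apply (a : Mon P) : pr a = a.π := rfl

theorem conj_x (w m : Mon P) (hm : m.π = 1) (j : Fin n) : (w * m * w⁻¹).x j = m.x (w.π⁻¹ j) := by
  simp [hm]

/-- every permutation commuting with `φ` occurs -/
theorem exists_pi (hn : 2 ≤ n) (π : Perm (Fin n)) (hπ : ∀ j, π (P.φ j) = P.φ (π j)) : ∃ m : Mon P, m.π = π := by
  by_cases hs : Perm.sign π = 1
  · exact ⟨⟨0, π, hπ, by simp, by simp [hs]⟩, rfl⟩
  rcases P.cs with ⟨-, hu, hφ⟩ | ⟨-, hu, hφ⟩
  · exact ⟨⟨Pi.single ⟨0, by omega⟩ P.h, π, hπ, fun j => by rw [hu, hφ, one_mul]; rfl, by simp [hs]⟩, rfl⟩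
  · obtain ⟨a, ha⟩ : ∃ a, P.φ a ≠ a := by
      by_contra! H
      have := hφ ⟨0, by omega⟩ ⟨1, by omega⟩ (H _) (H _)
      simp at this
    have hu' : P.u = P.h - 1 := hu
    have h3 : P.h * P.h = 0 := by
      have := P.two_le
      rw [Par.h, ← pow_add]; exact P.pow_eq (by omega)
    refine ⟨⟨Pi.single a 1 + Pi.single (P.φ a) P.u, π, hπ, fun j => ?_, ?_⟩, rfl⟩
    · by_cases h1 : j = a
      · subst h1; simp [ha, ha.symm]
      by_cases h2 : j = P.φ a
      · subst h2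
        simp only [P.hφ, Pi.add_apply, Pi.single_eq_same, Pi.single_eq_of_ne ha, Pi.single_eq_of_ne ha.symm, hu']
        linear_combination P.two_h - h3
      have h4 : P.φ j ≠ a := fun e => h2 (by rw [← e, P.hφ])
      have h5 : P.φ j ≠ P.φ a := fun e => h1 (P.φ.injective e)
      simp [h1, h2, h4, h5]
    · simp [Finset.sum_add_distrib, hs, hu']

end Mon

/-- `Δ` is a monomial model of the 2-local structure of `L`. -/
structure IsModel {P : Par n} {L : Type*} [Group L] (Δ : Mon P →* L) : Prop where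
  ker : ∀ m, Δ m = 1 ↔ m.π = 1 ∧ ∃ c, ∀ j, m.x j = c
  syl : ∃ T : Sylow 2 L, (T : Subgroup L) ≤ Δ.range
  norm : ∀ g : L, (∀ m : Mon P, m.π = 1 → ∃ m' : Mon P, m'.π = 1 ∧ g * Δ m * g⁻¹ = Δ m') →
    ∃ w : Mon P, ∀ m : Mon P, m.π = 1 → g * Δ m * g⁻¹ = Δ (w * m * w⁻¹)

end Cfsg.Lib.PSLF
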