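import Cfsg.Agent.Lib.PSLF.Data
import Mathlib.Tactic.FieldSimp

/-! The diagonal part of the monomial model modulo scalars and the action of the permutations on it. -/
set_option autoImplicit false

namespace Cfsg.Lib.PSLF
open Equiv

variable {n : ℕ}

namespace Par
variable (P : Par n)

theorem h_h : P.h * P.h = 0 := by
  have := P.two_le
  rw [Par.h, ← pow_add]; exact P.pow_eq (by omega)

theorem k_h (he : 3 ≤ P.e) : P.k * P.h = 0 := by
  rw [Par.h, Par.k, ← pow_add]; exact P.pow_eq (by omega)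

theorem two_ne : (2 : P.R) ≠ 0 := by simpa using P.pow_ne (j := 1) (by have := P.two_le; omega)

theorem four_ne (he : 3 ≤ P.e) : (4 : P.R) ≠ 0 := by
  have := P.pow_ne (j := 2) (by omega)
  norm_num at this
  exact this

theorem cs' : (P.u = 1 ∧ P.φ = 1) ∨
    (3 ≤ P.e ∧ P.u = P.h - 1 ∧ P.u ≠ 1 ∧ ∀ a b, P.φ a = a → P.φ b = b → a = b) := by
  rcases P.cs with h | h
  · exact Or.inl h.2
  · have hu : P.u = P.h - 1 := h.2.1
    exact Or.inr ⟨h.1, hu, fun e => P.four_ne h.1 (by linear_combination P.two_h - 2 * e + 2 * hu), h.2.2⟩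

theorem unit_odd {t : ℕ} (ht : Odd t) : IsUnit (t : P.R) :=
  (ZMod.isUnit_iff_coprime _ _).2 (Nat.Coprime.pow_right _ ht.coprime_two_right)

theorem three_ne : (3 : P.R) ≠ 0 := by
  have : Nontrivial P.R := ⟨⟨_, _, P.two_ne⟩⟩
  simpa using (P.unit_odd (t := 3) (by decide)).ne_zero

theorem parity (c : P.R) : (∃ d, c = 2 * d) ∨ ∃ d, c = 2 * d + 1 := by
  obtain ⟨t, rfl⟩ := ZMod.natCast_zmod_surjective c
  rcases Nat.even_or_odd' t with ⟨d, rfl | rfl⟩
  · exact Or.inl ⟨d, by push_cast; rfl⟩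
  · exact Or.inr ⟨d, by push_cast; rfl⟩

theorem even_of {c : P.R} (hc : P.h * c = 0) : ∃ d, c = 2 * d := by
  rcases P.parity c with h | ⟨d, rfl⟩
  · exact h
  · exact absurd (by linear_combination hc - d * P.two_h) P.h_ne

theorem h_mul (c : P.R) : P.h * c = 0 ∨ P.h * c = P.h := by
  rcases P.parity c with ⟨d, rfl⟩ | ⟨d, rfl⟩
  · exact Or.inl (by linear_combination d * P.two_h)
  · exact Or.inr (by linear_combination d * P.two_h)

theorem tors {c : P.R} (hc : 2 * c = 0) : c = 0 ∨ c = P.h := by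
  obtain ⟨t, rfl⟩ := ZMod.natCast_zmod_surjective c
  have h1 : ((2 * t : ℕ) : P.R) = 0 := by exact_mod_cast hc
  have h2 := P.two_le
  rw [ZMod.natCast_eq_zero_iff, show 2 ^ P.e = 2 * 2 ^ (P.e - 1) by rw [← pow_succ']; congr 1; omega] at h1
  obtain ⟨s, rfl⟩ := Nat.dvd_of_mul_dvd_mul_left (by norm_num) h1
  push_cast
  exact P.h_mul s

theorem u_sq : P.u * P.u = 1 := by
  rcases P.cs with h | h
  · rw [h.2.1, one_mul]
  · have : P.u = P.h - 1 := h.2.1
    rw [this]; linear_combination P.h_h - P.two_h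

theorem h_u : P.h * P.u = P.h := by
  rcases P.cs with h | h
  · rw [h.2.1, mul_one]
  · have : P.u = P.h - 1 := h.2.1
    rw [this]; linear_combination P.h_h - P.two_h

/-- diagonal exponent vectors -/
def DD : AddSubgroup (Fin n → P.R) where
  carrier := {x | (∀ j, x (P.φ j) = P.u * x j) ∧ ∑ j, x j = 0}
  zero_mem' := by simp
  add_mem' := fun {x y} hx hy => ⟨fun j => by simp [hx.1, hy.1, mul_add], by
    simp [Finset.sum_add_distrib, hx.2, hy.2]⟩
  neg_mem' := fun {x} hx => ⟨fun j => by simp [hx.1], by simp [hx.2]⟩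

theorem smul_mem (c : P.R) {x : Fin n → P.R} (hx : x ∈ P.DD) : c • x ∈ P.DD :=
  ⟨fun j => by simp [hx.1, mul_left_comm], by simp [← Finset.mul_sum, hx.2]⟩

/-- constant vectors -/
def Cst (x : Fin n → P.R) : Prop := ∀ i j, x i = x j

/-- scalars -/
def CC : AddSubgroup P.DD where
  carrier := {x | P.Cst x.1}
  zero_mem' := fun _ _ => rfl
  add_mem' := fun {x y} hx hy i j => by simp [hx i j, hy i j]
  neg_mem' := fun {x} hx i j => by simp [hx i j]

abbrev Ab := P.DD ⧸ P.CC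

abbrev W : Subgroup (Perm (Fin n)) := Subgroup.centralizer {P.φ}

variable {P}

theorem mem_W {w : Perm (Fin n)} : w ∈ P.W ↔ ∀ j, w (P.φ j) = P.φ (w j) := by
  rw [Subgroup.mem_centralizer_singleton_iff]
  exact ⟨fun h j => DFunLike.congr_fun h j, fun h => Equiv.ext h⟩

theorem comm (w : P.W) (j : Fin n) : w.1 (P.φ j) = P.φ (w.1 j) := mem_W.1 w.2 j

theorem comm' (w : P.W) (j : Fin n) : w.1⁻¹ (P.φ j) = P.φ (w.1⁻¹ j) := comm w⁻¹ j

theorem act_mem (w : P.W) {x : Fin n → P.R} (hx : x ∈ P.DD) : (fun j => x (w.1⁻¹ j)) ∈ P.DD :=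
  ⟨fun j => by simp only [comm', hx.1], by rw [Equiv.sum_comp w.1⁻¹ x, hx.2]⟩

/-- the permutation action on exponent vectors -/
def actD (w : P.W) : P.DD →+ P.DD where
  toFun x := ⟨fun j => x.1 (w.1⁻¹ j), act_mem w x.2⟩
  map_zero' := rfl
  map_add' _ _ := rfl

/-- the action modulo scalars -/
def ρ (w : P.W) : P.Ab →+ P.Ab := QuotientAddGroup.map _ _ (actD w) fun _ hx _ _ => hx _ _

/-- class of a vector -/
def cl (x : Fin n → P.R) (hx : x ∈ P.DD) : P.Ab := QuotientAddGroup.mk ⟨x, hx⟩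

theorem cl_surj (y : P.Ab) : ∃ x hx, y = cl x hx := by
  obtain ⟨x, rfl⟩ := QuotientAddGroup.mk_surjective y
  exact ⟨x.1, x.2, rfl⟩

theorem ρ_cl (w : P.W) (x : Fin n → P.R) (hx : x ∈ P.DD) :
    ρ w (cl x hx) = cl (fun j => x (w.1⁻¹ j)) (act_mem w hx) := rfl

theorem cl_eq_zero {x : Fin n → P.R} {hx : x ∈ P.DD} : cl x hx = 0 ↔ P.Cst x :=
  QuotientAddGroup.eq_zero_iff _

theorem cl_add {x y : Fin n → P.R} (hx : x ∈ P.DD) (hy : y ∈ P.DD) :
    cl x hx + cl y hy = cl (x + y) (add_mem hx hy) := rfl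

theorem cl_sub {x y : Fin n → P.R} (hx : x ∈ P.DD) (hy : y ∈ P.DD) :
    cl x hx - cl y hy = cl (x - y) (sub_mem hx hy) := rfl

theorem cl_nsmul (t : ℕ) {x : Fin n → P.R} (hx : x ∈ P.DD) :
    t • cl x hx = cl ((t : P.R) • x) (P.smul_mem _ hx) := by
  have : t • cl x hx = cl (t • x) (nsmul_mem hx t) := rfl
  rw [this]; congr 1; ext j; simp

theorem cl_smul (c : P.R) {x : Fin n → P.R} (hx : x ∈ P.DD) :
    cl (c • x) (P.smul_mem _ hx) = c.val • cl x hx := by
  rw [cl_nsmul]; simp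

theorem cl_eq {x y : Fin n → P.R} {hx : x ∈ P.DD} {hy : y ∈ P.DD} : cl x hx = cl y hy ↔ P.Cst (x - y) := by
  rw [← sub_eq_zero, cl_sub, cl_eq_zero]

theorem ρ_mul (w w' : P.W) (y : P.Ab) : ρ (w * w') y = ρ w (ρ w' y) := by
  obtain ⟨x, hx, rfl⟩ := cl_surj y
  rfl

theorem ρ_one (y : P.Ab) : ρ 1 y = y := by
  obtain ⟨x, hx, rfl⟩ := cl_surj y
  rfl

theorem pow_smul_eq (y : P.Ab) : 2 ^ P.e • y = 0 := by
  obtain ⟨x, hx, rfl⟩ := cl_surj y
  rw [cl_nsmul, cl_eq_zero]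
  intro i j
  simp

/-- the basic twisted vectors -/
def vv (P : Par n) (a j : Fin n) : P.R :=
  if j = a then (if P.u = 1 ∨ P.φ a ≠ a then 1 else P.h) else if j = P.φ a then P.u else 0

theorem vv_self {a : Fin n} (h : P.u = 1 ∨ P.φ a ≠ a) : P.vv a a = 1 := by simp only [vv, if_true, if_pos h]

theorem vv_fix {a : Fin n} (h : P.u ≠ 1) (ha : P.φ a = a) : P.vv a a = P.h := by simp [vv, h, ha]

theorem vv_phi {a : Fin n} (h : P.φ a ≠ a) : P.vv a (P.φ a) = P.u := by simp [vv, h]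

theorem vv_ne {a j : Fin n} (h : j ≠ a) (h' : j ≠ P.φ a) : P.vv a j = 0 := by simp [vv, h, h']

theorem vv_one (hu : P.u = 1) (h : P.φ = 1) (a j : Fin n) : P.vv a j = if j = a then 1 else 0 := by
  simp only [vv, h, hu, true_or, if_true, Perm.one_apply]
  split_ifs <;> rfl

theorem vv_act (w : P.W) (a j : Fin n) : P.vv a (w.1⁻¹ j) = P.vv (w.1 a) j := by
  have h1 : ∀ c, w.1⁻¹ j = c ↔ j = w.1 c := fun c => Perm.inv_eq_iff_eq
  have h2 : P.φ (w.1 a) ≠ w.1 a ↔ P.φ a ≠ a := by rw [← comm, w.1.injective.ne_iff]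
  simp only [vv, h1, h2, comm]

theorem phi_eq_iff {a b : Fin n} : P.φ a = b ↔ a = P.φ b :=
  ⟨fun h => by rw [← h, P.hφ], fun h => by rw [h, P.hφ]⟩

theorem vv_tw (a j : Fin n) : P.vv a (P.φ j) = P.u * P.vv a j := by
  rcases P.cs' with ⟨hu, hφ⟩ | ⟨-, -, hu, hφ⟩
  · rw [hu, hφ, one_mul]; rfl
  by_cases h1 : j = a
  · subst h1
    by_cases h : P.φ j = j
    · rw [h, vv_fix hu h, mul_comm, P.h_u]
    · rw [vv_phi h, vv_self (Or.inr h), mul_one]
  by_cases h2 : j = P.φ a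
  · subst h2
    rw [P.hφ, vv_phi h1, vv_self (Or.inr h1), P.u_sq]
  · rw [vv_ne h1 h2, vv_ne (fun e => h2 (phi_eq_iff.1 e)) fun e => h1 (P.φ.injective e), mul_zero]

theorem sum_vv (a : Fin n) : ∑ j, P.vv a j = if P.u = 1 then 1 else P.h := by
  rcases P.cs' with ⟨hu, hφ⟩ | ⟨-, hu', hu, hφ⟩
  · simp [vv_one hu hφ, hu]
  rw [if_neg hu]
  by_cases h : P.φ a = a
  · rw [Finset.sum_eq_single a (fun j _ hj => vv_ne hj (by rwa [h])) (by simp), vv_fix hu h]
  · rw [Finset.sum_eq_add a (P.φ a) (Ne.symm h) (fun j _ hj => vv_ne hj.1 hj.2) (by simp) (by simp),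
      vv_self (Or.inr h), vv_phi h, hu']
    ring

theorem vv_sub_mem (a b : Fin n) : P.vv a - P.vv b ∈ P.DD :=
  ⟨fun j => by simp [vv_tw, mul_sub], by simp [Finset.sum_sub_distrib, sum_vv]⟩

theorem vv_smul_mem (hu : P.u ≠ 1) {c : P.R} (hc : c * P.h = 0) (a : Fin n) : c • P.vv a ∈ P.DD :=
  ⟨fun j => by simp [vv_tw, mul_left_comm], by simp [← Finset.mul_sum, sum_vv, hu, hc]⟩

/-- the class of `vv a - vv b` -/
def g (P : Par n) (a b : Fin n) : P.Ab := cl _ (vv_sub_mem a b)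

theorem ρ_g (w : P.W) (a b : Fin n) : ρ w (P.g a b) = P.g (w.1 a) (w.1 b) := by
  rw [g, ρ_cl, g]; congr 1; ext j; simp only [Pi.sub_apply, vv_act]

theorem g_sub (a b c : Fin n) : P.g a c - P.g b c = P.g a b := by
  rw [g, g, cl_sub, g]; congr 1; abel

theorem g_self (a : Fin n) : P.g a a = 0 := by
  rw [g, cl_eq_zero]; intro i j; simp

theorem fix_of (hu : P.u ≠ 1) (w : P.W) {r : Fin n} (hr : P.φ r = r) : w.1 r = r := by
  rcases P.cs' with ⟨h, -⟩ | ⟨-, -, -, hφ⟩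
  · exact absurd h hu
  · exact hφ _ _ (by rw [← comm, hr]) hr

theorem exists_new (s : Finset (Fin n)) (h : s.card < n) : ∃ j, j ∉ s := by
  by_contra! H
  rw [Finset.eq_univ_iff_forall.2 H] at h
  simp at h

theorem exists_third (hn : 3 ≤ n) (a b : Fin n) : ∃ l, l ≠ a ∧ l ≠ b := by
  obtain ⟨l, hl⟩ := exists_new {a, b} (Finset.card_le_two.trans_lt (by omega))
  exact ⟨l, by simpa using hl⟩

/-- `ρ` is faithful -/
theorem ρ_faithful (hn : 3 ≤ n) (w : P.W) (h : ∀ y, ρ w y = y) : w = 1 := by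
  by_contra hw
  obtain ⟨a, ha⟩ : ∃ a, w.1 a ≠ a := by
    by_contra! H
    exact hw (Subtype.ext (Equiv.ext H))
  rcases P.cs' with ⟨hu, hφ⟩ | ⟨he, hu', hu, hφ⟩
  · obtain ⟨l, h1, h2⟩ := exists_third hn a (w.1 a)
    have := h (P.g a l)
    rw [ρ_g, g, g, cl_eq] at this
    have h3 := this (w.1 a) a
    have h4 : w.1 a ≠ w.1 l := w.1.injective.ne h1.symm
    simp only [Pi.sub_apply, vv_one hu hφ, if_true, if_neg ha, if_neg h2.symm, if_neg h4, if_neg ha.symm,
      if_neg h1.symm] at h3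
    split_ifs at h3
    · exact P.three_ne (by linear_combination h3)
    · exact P.two_ne (by linear_combination h3)
  have ha' : P.φ a ≠ a := fun e => ha (fix_of hu w e)
  by_cases hb : w.1 a = P.φ a
  · obtain ⟨l, h1, h2⟩ := exists_third hn a (P.φ a)
    have := h (P.g a l)
    rw [ρ_g, g, g, cl_eq] at this
    have h3 := this a (P.φ a)
    have h5 : w.1 (P.φ a) = a := by rw [comm, hb, P.hφ]
    have h6 : a ≠ w.1 l := fun e => h2 (w.1.injective (e.symm.trans h5.symm))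
    have h7 : P.φ a ≠ w.1 l := fun e => h1 (w.1.injective (e.symm.trans hb.symm))
    have h8 := vv_phi (a := P.φ a) (by rw [P.hφ]; exact ha'.symm)
    rw [P.hφ] at h8
    simp only [Pi.sub_apply, hb, h8, vv_self (Or.inr ha'), vv_phi ha',
      vv_self (a := P.φ a) (Or.inr (by rw [P.hφ]; exact ha'.symm)), vv_ne h6 (fun e => h7 (phi_eq_iff.2 e)),
      vv_ne h7 (P.φ.injective.ne h6), vv_ne h1.symm (fun e => h2.symm (phi_eq_iff.2 e)),
      vv_ne h2.symm (P.φ.injective.ne h1.symm)] at h3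
    exact P.four_ne he (by linear_combination -h3 + 2 * hu' + P.two_h)
  · have := h (cl _ (vv_smul_mem hu P.two_h a))
    rw [ρ_cl, cl_eq] at this
    have h3 := this (w.1 a) a
    have h4 : P.φ (w.1 a) ≠ w.1 a := by rw [← comm]; exact w.1.injective.ne ha'
    simp only [Pi.sub_apply, Pi.smul_apply, vv_act, smul_eq_mul, vv_self (Or.inr h4), vv_self (Or.inr ha'),
      vv_ne ha hb, vv_ne ha.symm (fun e => hb (phi_eq_iff.2 e).symm)] at h3
    exact P.four_ne he (by linear_combination h3)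

/-- the classes `g j a` generate -/
theorem span {a : Fin n} (ha : P.u = 1 ∨ P.φ a ≠ a) (H : AddSubgroup P.Ab) (h : ∀ j, P.g j a ∈ H) : H = ⊤ := by
  let H' : AddSubgroup (Fin n → P.R) := (H.comap (QuotientAddGroup.mk' P.CC)).map P.DD.subtype
  have hH : ∀ x hx, cl x hx ∈ H ↔ x ∈ H' := fun x hx =>
    ⟨fun h => ⟨⟨x, hx⟩, h, rfl⟩, fun ⟨y, hy, e⟩ => by subst e; exact hy⟩
  have hs : ∀ (c : P.R) (j), c • (P.vv j - P.vv a) ∈ H' := fun c j =>
    (hH _ (P.smul_mem c (vv_sub_mem j a))).1 (by rw [cl_smul]; exact nsmul_mem (h j) _)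
  rw [eq_top_iff]
  intro y _
  obtain ⟨x, hx, rfl⟩ := cl_surj y
  rw [hH]
  rcases P.cs' with ⟨hu, hφ⟩ | ⟨he, hu', hu, hφ⟩
  · convert sum_mem fun j (_ : j ∈ Finset.univ) => hs (x j) j
    ext i
    simp [vv_one hu hφ, mul_sub, Finset.sum_sub_distrib, hx.2]
  have ha : P.φ a ≠ a := ha.resolve_left hu
  -- coefficients
  have hc : ∀ j, ∃ c : P.R, (j < P.φ j → c = x j) ∧ (P.φ j < j → c = 0) ∧ (P.φ j = j → c * P.h = x j) := fun j => by
    rcases lt_trichotomy j (P.φ j) with h | h | h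
    · exact ⟨x j, fun _ => rfl, fun h' => absurd h h'.not_gt, fun h' => absurd h' h.ne'⟩
    · have h1 := hx.1 j
      rw [← h, hu'] at h1
      have h2 : 2 * x j = 0 := by
        have : IsUnit (P.k - 1) := by
          have h3 : P.k = 2 * 2 ^ (P.e - 3) := by rw [Par.k, ← pow_succ']; congr 1; omega
          rcases P.parity (2 ^ (P.e - 3) - 1) with h4 | h4 <;>
          · have := (P.unit_odd (t := 2 * (2 ^ (P.e - 3) - 1 : P.R).val + 1) (by simp))
            convert this using 1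
            push_cast [ZMod.natCast_val, ZMod.cast_id', id]
            linear_combination h3
        exact this.mul_right_eq_zero.1 (by linear_combination x j * P.two_k - h1)
      rcases P.tors h2 with h3 | h3
      · exact ⟨0, fun h' => absurd h h'.ne, fun _ => rfl, fun _ => by rw [h3, zero_mul]⟩
      · exact ⟨1, fun h' => absurd h h'.ne, fun h' => absurd h h'.ne', fun _ => by rw [h3, one_mul]⟩
    · exact ⟨0, fun h' => absurd h h'.not_gt, fun _ => rfl, fun h' => absurd h' h.ne⟩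
  choose c h1 h2 h3 using hc
  have hx' : x = ∑ j, c j • P.vv j := by
    ext i
    rw [Finset.sum_apply]
    simp only [Pi.smul_apply, smul_eq_mul]
    rcases lt_trichotomy i (P.φ i) with h | h | h
    · rw [Finset.sum_eq_add i (P.φ i) h.ne (fun j _ hj => by
        rw [vv_ne hj.1.symm (fun e => hj.2 (phi_eq_iff.2 e).symm), mul_zero]) (by simp) (by simp), h1 i h,
        h2 (P.φ i) (by rwa [P.hφ]), vv_self (Or.inr h.ne')]
      ring
    · rw [Finset.sum_eq_single i (fun j _ hj => by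
        rw [vv_ne hj.symm (fun e => hj ((phi_eq_iff.2 e).symm.trans h.symm)), mul_zero]) (by simp), vv_fix hu h.symm,
        h3 i h.symm]
    · have h4 := vv_phi (a := P.φ i) (by rw [P.hφ]; exact h.ne')
      rw [P.hφ] at h4
      rw [Finset.sum_eq_add i (P.φ i) h.ne' (fun j _ hj => by
        rw [vv_ne hj.1.symm (fun e => hj.2 (phi_eq_iff.2 e).symm), mul_zero]) (by simp) (by simp), h2 i h,
        h1 (P.φ i) (by rwa [P.hφ]), h4, hx.1]
      linear_combination -x i * P.u_sq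
  have h5 : P.h * ∑ j, c j = 0 := by
    have := hx.2
    rw [hx'] at this
    simp only [Finset.sum_apply, Pi.smul_apply, smul_eq_mul] at this
    rw [Finset.sum_comm] at this
    simpa [← Finset.mul_sum, sum_vv, hu, ← Finset.sum_mul, mul_comm] using this
  obtain ⟨d, hd⟩ := P.even_of h5
  have h6 : P.vv (P.φ a) = P.u • P.vv a := by
    ext i
    have := vv_act ⟨P.φ, mem_W.2 fun _ => rfl⟩ a i
    rw [show (P.φ⁻¹ : Perm _) i = P.φ i from Perm.inv_eq_iff_eq.2 (P.hφ i).symm, vv_tw] at this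
    exact this.symm
  convert add_mem (sum_mem fun j (_ : j ∈ Finset.univ) => hs (c j) j) (hs (d * (P.k - 1)) (P.φ a)) using 1
  ext i
  have h7 := congrFun hx' i
  simp only [Finset.sum_apply, Pi.smul_apply, smul_eq_mul] at h7
  simp only [h6, Finset.sum_apply, Pi.add_apply, Pi.sub_apply, Pi.smul_apply, smul_eq_mul, hu', mul_sub,
    Finset.sum_sub_distrib, ← Finset.sum_mul, hd]
  linear_combination h7 + (-d * P.vv a i) * P.k_h he + (d * P.vv a i) * P.two_k + (d * P.vv a i) * P.two_h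

end Par

end Cfsg.Lib.PSLF
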