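import Mathlib
import Cfsg.Agent.Lib.PSLF.Vec

/-! The monomial matrices of `Mon P` over an extension field, descended to `SL_n(F)`. -/
set_option autoImplicit false

namespace Cfsg.Lib.PSLF
open Equiv Matrix

variable {n : ℕ}

theorem Par.sep (P : Par n) {i j : Fin n} (hij : i ≠ j) : ∃ m : Mon P, m.π = 1 ∧ m.x i ≠ m.x j := by
  have key : ∀ x ∈ P.DD, x i ≠ x j → ∃ m : Mon P, m.π = 1 ∧ m.x i ≠ m.x j := fun x hx h =>
    ⟨⟨x, 1, fun _ => rfl, hx.1, by simp [hx.2]⟩, rfl, h⟩
  rcases P.cs' with ⟨hu, hφ⟩ | ⟨he, hu, hu', hφ⟩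
  · refine key _ (Par.vv_sub_mem i j) fun h => P.two_ne ?_
    simp only [Pi.sub_apply, Par.vv_one hu hφ, hij, hij.symm, if_true, if_false] at h
    linear_combination h
  · have k2 : ∀ a b : Fin n, a ≠ b → P.φ a ≠ a → ((2 : P.R) • P.vv a) a ≠ ((2 : P.R) • P.vv a) b := by
      intro a b ab ha h
      simp only [Pi.smul_apply, smul_eq_mul, Par.vv_self (Or.inr ha)] at h
      by_cases hb : b = P.φ a
      · rw [hb, Par.vv_phi ha, hu] at h
        exact P.four_ne he (by linear_combination h + P.two_h)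
      · rw [Par.vv_ne ab.symm hb] at h
        exact P.two_ne (by linear_combination h)
    by_cases hi : P.φ i = i
    · exact key _ (Par.vv_smul_mem hu' P.two_h j) (k2 j i hij.symm fun hj => hij (hφ _ _ hi hj)).symm
    · exact key _ (Par.vv_smul_mem hu' P.two_h i) (k2 i j hij hi)

/-- The data needed to realize `Mon P` in `SL_n(F)`. -/
structure Real (P : Par n) (F K : Type*) [Field F] [Field K] [Algebra F K] where
  σ : K →+* K
  fix : ∀ x, σ x = x ↔ ∃ c, algebraMap F K c = x
  χ : AddChar P.R K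
  inj : Function.Injective χ
  σχ : ∀ x, σ (χ x) = χ (P.u * x)
  B : Matrix (Fin n) (Fin n) K
  C : Matrix (Fin n) (Fin n) K
  BC : B * C = 1
  σB : ∀ i j, σ (B i j) = B i (P.φ j)

namespace Real
variable {P : Par n} {F K : Type*} [Field F] [Field K] [Algebra F K] (R : Real P F K)

theorem χ_ne (x : P.R) : R.χ x ≠ 0 := fun h => by
  have := R.χ.map_add_eq_mul x (-x)
  rw [add_neg_cancel, h, zero_mul, AddChar.map_zero_eq_one] at this
  exact one_ne_zero this

theorem χ_h : R.χ P.h = -1 := by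
  have h : R.χ P.h ^ 2 = 1 := by rw [sq, ← R.χ.map_add_eq_mul, P.h_add, AddChar.map_zero_eq_one]
  exact (sq_eq_one_iff.1 h).resolve_left fun e =>
    P.h_ne (R.inj (e.trans R.χ.map_zero_eq_one.symm))

theorem CB : R.C * R.B = 1 := mul_eq_one_comm.1 R.BC

theorem map_B : R.B.map R.σ = R.B.submatrix id P.φ := Matrix.ext R.σB

theorem map_C : R.C.map R.σ = R.C.submatrix P.φ id := by
  have h1 : R.C.map R.σ * R.B.map R.σ = 1 := by rw [← Matrix.map_mul, R.CB]; simp
  have h2 : R.B.map R.σ * R.C.submatrix P.φ id = 1 := by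
    rw [R.map_B, submatrix_mul_equiv, R.BC]; rfl
  rw [← mul_one (R.C.map R.σ), ← h2, ← mul_assoc, h1, one_mul]

/-- the monomial matrix -/
def M (m : Mon P) : Matrix (Fin n) (Fin n) K := of fun i j => if i = m.π j then R.χ (m.x i) else 0

theorem M_apply (m : Mon P) (i j : Fin n) : R.M m i j = if i = m.π j then R.χ (m.x i) else 0 := rfl

theorem M_one : R.M 1 = 1 := by
  ext i j; simp [M_apply, one_apply]

theorem M_mul (a b : Mon P) : R.M (a * b) = R.M a * R.M b := by
  ext i k
  rw [mul_apply, Finset.sum_eq_single (b.π k) (fun j _ h => by simp [M_apply, h]) (by simp)]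
  rw [M_apply, M_apply, M_apply, if_pos rfl, Mon.mul_π, Mon.mul_x, Perm.mul_apply]
  split_ifs with h
  · rw [R.χ.map_add_eq_mul, h]; simp
  · exact (zero_mul _).symm

theorem M_diag {m : Mon P} (h : m.π = 1) : R.M m = diagonal fun i => R.χ (m.x i) := by
  ext i j; simp [M_apply, h, diagonal_apply]

theorem χ_sum (s : Finset (Fin n)) (x : Fin n → P.R) : R.χ (∑ j ∈ s, x j) = ∏ j ∈ s, R.χ (x j) := by
  induction s using Finset.induction_on with
  | empty => simp
  | insert a s ha ih => rw [Finset.sum_insert ha, Finset.prod_insert ha, R.χ.map_add_eq_mul, ih]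

theorem det_M (m : Mon P) : (R.M m).det = 1 := by
  have h : R.M m = (diagonal fun i => R.χ (m.x i)) * (m.π⁻¹.permMatrix K) := by
    ext i j
    simp [M_apply, diagonal_mul, Perm.permMatrix, PEquiv.toMatrix_apply, symm_apply_eq]
  rw [h, det_mul, det_diagonal, det_permutation, Perm.sign_inv, ← R.χ_sum, m.det]
  rcases Int.units_eq_one_or (Perm.sign m.π) with e | e <;> simp [e, R.χ_h]

theorem map_M (m : Mon P) : (R.M m).map R.σ = (R.M m).submatrix P.φ P.φ := by
  ext i j
  simp only [map_apply, submatrix_apply, M_apply, m.comm, m.tw, P.φ.apply_eq_iff_eq]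
  split_ifs
  · exact R.σχ _
  · exact map_zero _

theorem exists_SL (m : Mon P) : ∃ g : Matrix.SpecialLinearGroup (Fin n) F,
    (g : Matrix (Fin n) (Fin n) F).map (algebraMap F K) = R.B * R.M m * R.C := by
  have h : (R.B * R.M m * R.C).map R.σ = R.B * R.M m * R.C := by
    rw [Matrix.map_mul, Matrix.map_mul, R.map_B, R.map_C, R.map_M, submatrix_mul_equiv,
      submatrix_mul_equiv]; rfl
  choose c hc using fun i j => (R.fix _).1 (congrFun₂ h i j)
  have h2 : (of c).map (algebraMap F K) = R.B * R.M m * R.C := Matrix.ext hc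
  refine ⟨⟨of c, (algebraMap F K).injective ?_⟩, h2⟩
  rw [RingHom.map_det, RingHom.mapMatrix_apply, h2, map_one, det_mul_right_comm, R.BC, one_mul, R.det_M]

theorem map_inj {a b : Matrix (Fin n) (Fin n) F} (h : a.map (algebraMap F K) = b.map (algebraMap F K)) : a = b :=
  Matrix.ext fun i j => (algebraMap F K).injective (congrFun₂ h i j)

/-- the embedding into `SL_n(F)` -/
noncomputable def D : Mon P →* Matrix.SpecialLinearGroup (Fin n) F :=
  MonoidHom.mk' (fun m => (R.exists_SL m).choose) fun a b => Subtype.ext (map_inj (K := K) (by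
    rw [Matrix.SpecialLinearGroup.coe_mul, Matrix.map_mul, (R.exists_SL _).choose_spec, (R.exists_SL _).choose_spec,
      (R.exists_SL _).choose_spec, R.M_mul]
    simp only [mul_assoc]
    rw [← mul_assoc R.C, R.CB, one_mul]))

theorem D_spec (m : Mon P) : (R.D m : Matrix (Fin n) (Fin n) F).map (algebraMap F K) = R.B * R.M m * R.C := (R.exists_SL m).choose_spec

/-- transport to the eigenbasis -/
def tr (g : Matrix.SpecialLinearGroup (Fin n) F) : Matrix (Fin n) (Fin n) K := R.C * (g : Matrix (Fin n) (Fin n) F).map (algebraMap F K) * R.B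

theorem tr_mul (a b : Matrix.SpecialLinearGroup (Fin n) F) : R.tr (a * b) = R.tr a * R.tr b := by
  simp only [tr, Matrix.SpecialLinearGroup.coe_mul, Matrix.map_mul, mul_assoc]
  rw [← mul_assoc R.B, R.BC, one_mul]

theorem tr_D (m : Mon P) : R.tr (R.D m) = R.M m := by
  rw [tr, R.D_spec, ← mul_assoc, ← mul_assoc, R.CB, one_mul, mul_assoc, R.CB, mul_one]

theorem tr_inj {a b : Matrix.SpecialLinearGroup (Fin n) F} (h : R.tr a = R.tr b) : a = b := by
  have k : ∀ a, R.B * R.tr a * R.C = (a : Matrix (Fin n) (Fin n) F).map (algebraMap F K) := fun a => by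
    rw [tr, ← mul_assoc, ← mul_assoc, R.BC, one_mul, mul_assoc, R.BC, mul_one]
  exact Subtype.ext (map_inj (K := K) (by rw [← k, h, k]))

theorem tr_det (a : Matrix.SpecialLinearGroup (Fin n) F) : (R.tr a).det = 1 := by
  rw [tr, det_mul_right_comm, R.CB, one_mul, ← RingHom.mapMatrix_apply, ← RingHom.map_det, a.2, map_one]

theorem tr_map (a : Matrix.SpecialLinearGroup (Fin n) F) : (R.tr a).map R.σ = (R.tr a).submatrix P.φ P.φ := by
  have h : ((a : Matrix (Fin n) (Fin n) F).map (algebraMap F K)).map R.σ = ((a : Matrix (Fin n) (Fin n) F).map (algebraMap F K)).submatrix id id :=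
    Matrix.ext fun i j => (R.fix _).2 ⟨_, rfl⟩
  rw [tr, Matrix.map_mul, Matrix.map_mul, R.map_B, R.map_C, h]
  exact (congrArg (· * _) (submatrix_mul_equiv _ _ _ (Equiv.refl _) _)).trans
    (submatrix_mul_equiv _ _ _ (Equiv.refl _) _)

theorem tr_center {z : Matrix.SpecialLinearGroup (Fin n) F} (hz : z ∈ Subgroup.center _) :
    ∃ r : K, R.tr z = diagonal fun _ => r := by
  obtain ⟨r, -, hr⟩ := Matrix.SpecialLinearGroup.mem_center_iff.1 hz
  refine ⟨algebraMap F K r, ?_⟩
  have : (z : Matrix (Fin n) (Fin n) F).map (algebraMap F K) = algebraMap F K r • (1 : Matrix (Fin n) (Fin n) K) := by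
    rw [← hr]; ext i j; by_cases h : i = j <;> simp [h, one_apply, diagonal_apply]
  rw [tr, this, Matrix.mul_smul, mul_one, Matrix.smul_mul, R.CB, smul_one_eq_diagonal]

theorem mem_center {m : Mon P} : R.D m ∈ Subgroup.center _ ↔ m.π = 1 ∧ ∃ c, ∀ j, m.x j = c := by
  constructor
  · intro h
    obtain ⟨r, hr⟩ := R.tr_center h
    rw [R.tr_D] at hr
    have h1 : ∀ j, m.π j = j := fun j => by_contra fun e => R.χ_ne (m.x (m.π j)) (by
      simpa [M_apply, e] using congrFun₂ hr (m.π j) j)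
    have h2 : ∀ j, R.χ (m.x j) = r := fun j => by simpa [M_apply, h1] using congrFun₂ hr j j
    refine ⟨Equiv.ext h1, ?_⟩
    rcases isEmpty_or_nonempty (Fin n) with h | ⟨⟨i⟩⟩
    exacts [⟨0, fun j => h.elim j⟩, ⟨m.x i, fun j => R.inj ((h2 j).trans (h2 i).symm)⟩]
  · rintro ⟨h, c, hc⟩
    refine Subgroup.mem_center_iff.2 fun g => R.tr_inj ?_
    rw [R.tr_mul, R.tr_mul, R.tr_D, R.M_diag h]
    ext i j; simp [hc, mul_comm]

theorem D_inj : Function.Injective R.D := (injective_iff_map_eq_one _).2 fun m h => by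
  obtain ⟨h1, -⟩ := R.mem_center.1 (h ▸ one_mem _ : R.D m ∈ Subgroup.center _)
  have h2 := R.tr_D m
  rw [h, ← map_one R.D, R.tr_D, R.M_one, R.M_diag h1] at h2
  exact Mon.ext (funext fun j => R.inj (by simpa using (congrFun₂ h2 j j).symm)) h1

theorem norm (hn : 2 ≤ n) (g : Matrix.SpecialLinearGroup (Fin n) F)
    (h : ∀ m : Mon P, m.π = 1 → ∃ m' : Mon P, m'.π = 1 ∧ ∃ z ∈ Subgroup.center _, g * R.D m * g⁻¹ * z = R.D m') :
    ∃ w : Mon P, ∀ m : Mon P, m.π = 1 → g * R.D m * g⁻¹ = R.D (w * m * w⁻¹) := by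
  have h1 : ∀ i j k, R.tr g i j ≠ 0 → R.tr g i k ≠ 0 → j = k := fun i j k hj hk => by_contra fun e => by
    obtain ⟨m, hm, hjk⟩ := P.sep e
    obtain ⟨m', hm', z, hz, e⟩ := h m hm
    obtain ⟨r, hr⟩ := R.tr_center hz
    have e2 : g * R.D m * z = R.D m' * g := by
      rw [← e, mul_assoc _ z, ← Subgroup.mem_center_iff.1 hz g]; group
    have e3 := congrArg R.tr e2
    rw [R.tr_mul, R.tr_mul, R.tr_mul, R.tr_D, R.tr_D, hr, R.M_diag hm, R.M_diag hm'] at e3
    have a := congrFun₂ e3 i j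
    have b := congrFun₂ e3 i k
    simp only [mul_diagonal, diagonal_mul] at a b
    have a' : R.χ (m.x j) * r = R.χ (m'.x i) := mul_left_cancel₀ hj (by linear_combination a)
    have b' : R.χ (m.x k) * r = R.χ (m'.x i) := mul_left_cancel₀ hk (by linear_combination b)
    have r0 : r ≠ 0 := fun e => R.χ_ne _ (by rw [← a', e, mul_zero])
    exact hjk (R.inj (mul_right_cancel₀ r0 (a'.trans b'.symm)))
  obtain ⟨τ, -, hτ⟩ := Finset.exists_ne_zero_of_sum_ne_zero
    (det_apply (R.tr g) ▸ (R.tr_det g ▸ one_ne_zero : (R.tr g).det ≠ 0))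
  have h2 : ∀ j, R.tr g (τ j) j ≠ 0 := fun j e => hτ (by
    rw [Finset.prod_eq_zero (f := fun i => R.tr g (τ i) i) (Finset.mem_univ j) e, smul_zero])
  have h3 : ∀ i j, R.tr g i j ≠ 0 → i = τ j := fun i j e => by
    rw [h1 i j (τ⁻¹ i) e (by simpa using h2 (τ⁻¹ i))]; simp
  obtain ⟨w, hw⟩ := Mon.exists_pi (P := P) hn τ fun j => (h3 _ _ (by
    rw [← submatrix_apply (R.tr g), ← R.tr_map, map_apply]
    exact (map_ne_zero R.σ).2 (h2 j))).symm
  refine ⟨w, fun m hm => mul_inv_eq_iff_eq_mul.2 (R.tr_inj ?_)⟩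
  rw [R.tr_mul, R.tr_mul, R.tr_D, R.tr_D, R.M_diag hm, R.M_diag (by simp [hm])]
  ext i j
  rw [mul_diagonal, diagonal_mul, Mon.conj_x w m hm, hw]
  by_cases e : R.tr g i j = 0
  · simp [e]
  · rw [h3 i j e, mul_comm]; simp

theorem isModel [Finite F] (hn : 2 ≤ n)
    (hc : padicValNat 2 (Nat.card (Matrix.SpecialLinearGroup (Fin n) F)) ≤ padicValNat 2 (Nat.card (Mon P))) :
    IsModel (L := ProjectiveSpecialLinearGroup (Fin n) F) ((QuotientGroup.mk' _).comp R.D) where
  ker m := (QuotientGroup.eq_one_iff _).trans R.mem_center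
  syl := by
    let S : Sylow 2 (Mon P) := default
    have hS : IsPGroup 2 ((S : Subgroup (Mon P)).map R.D) := S.2.map _
    have hi : ¬ 2 ∣ ((S : Subgroup (Mon P)).map R.D).index := fun hd => by
      rw [← ((S : Subgroup (Mon P)).map R.D).index_mul_card,
        padicValNat.mul Subgroup.index_ne_zero_of_finite Nat.card_pos.ne', Subgroup.card_map_of_injective R.D_inj,
        S.card_eq_multiplicity, padicValNat.prime_pow, Nat.factorization_def _ Nat.prime_two] at hc
      have := one_le_padicValNat_of_dvd Subgroup.index_ne_zero_of_finite hd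
      omega
    refine ⟨(hS.toSylow hi).mapSurjective (QuotientGroup.mk'_surjective _), ?_⟩
    rintro _ ⟨_, ⟨m, -, rfl⟩, rfl⟩
    exact ⟨m, rfl⟩
  norm g h := by
    obtain ⟨g, rfl⟩ := QuotientGroup.mk'_surjective _ g
    obtain ⟨w, hw⟩ := R.norm hn g fun m hm => by
      obtain ⟨m', hm', e⟩ := h m hm
      rw [MonoidHom.comp_apply, MonoidHom.comp_apply, ← map_inv, ← map_mul, ← map_mul] at e
      exact ⟨m', hm', (QuotientGroup.mk'_eq_mk' _).1 e⟩
    exact ⟨w, fun m hm => by
      rw [MonoidHom.comp_apply, MonoidHom.comp_apply, ← hw m hm, map_mul, map_mul, map_inv]⟩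

end Real

end Cfsg.Lib.PSLF
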