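import Cfsg.Agent.Lib.PSLF.M1
import Cfsg.Agent.Lib.Wr.Lin

/-! The 2-part of the order of `Mon P`. -/
set_option autoImplicit false

namespace Cfsg.Lib.PSLF
open Equiv

variable {n : ℕ}

namespace Par
variable (P : Par n)

/-- twisted vectors -/
def XX : AddSubgroup (Fin n → P.R) where
  carrier := {x | ∀ j, x (P.φ j) = P.u * x j}
  zero_mem' := by simp
  add_mem' := fun {x y} hx hy j => by simp [hx j, hy j, mul_add]
  neg_mem' := fun {x} hx j => by simp [hx j]

/-- fixed scalars -/
def YY : AddSubgroup P.R where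
  carrier := {c | P.u * c = c}
  zero_mem' := by simp
  add_mem' := fun {x y} (hx : _ = _) (hy : _ = _) => show _ = _ by rw [mul_add, hx, hy]
  neg_mem' := fun {x} (hx : _ = _) => show _ = _ by rw [mul_neg, hx]

theorem card_XX_le : Nat.card P.XX ≤ Nat.card P.DD * Nat.card P.YY := by
  let s : P.XX →+ P.R := AddMonoidHom.mk' (fun x => ∑ j, x.1 j) fun x y => by simp [Finset.sum_add_distrib]
  rw [← s.ker.card_mul_index, AddSubgroup.index_ker]
  refine Nat.mul_le_mul (Nat.card_le_card_of_injective (fun x => ⟨x.1.1, x.1.2, x.2⟩) fun x y h =>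
    Subtype.ext (Subtype.ext (congrArg (fun z : P.DD => z.1) h))) (AddSubgroup.card_le_of_le ?_)
  rintro _ ⟨x, rfl⟩
  change P.u * ∑ j, x.1 j = ∑ j, x.1 j
  rw [Finset.mul_sum, ← Equiv.sum_comp P.φ x.1]
  exact Finset.sum_congr rfl fun j _ => (x.2 j).symm

theorem le_card_XX : Nat.card P.R ^ Nat.card {a // a < P.φ a} * Nat.card P.YY ^ Nat.card {a // P.φ a = a} ≤
    Nat.card P.XX := by
  have hl : ∀ j, ¬ j < P.φ j → ¬ P.φ j = j → P.φ j < P.φ (P.φ j) := fun j h h' => by
    rw [P.hφ]; exact lt_of_le_of_ne (not_lt.1 h) h'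
  rw [← Nat.card_fun, ← Nat.card_fun, ← Nat.card_prod]
  refine Nat.card_le_card_of_injective (fun f => ⟨fun j => if h : j < P.φ j then f.1 ⟨j, h⟩ else
    if h' : P.φ j = j then f.2 ⟨j, h'⟩ else P.u * f.1 ⟨P.φ j, hl j h h'⟩, fun j => ?_⟩) fun f g h => ?_
  · rcases lt_trichotomy j (P.φ j) with h | h | h
    · simp [P.hφ, h, h.not_gt, h.ne]
    · simp only [← h, lt_irrefl, dif_neg, not_false_eq_true, dif_pos]
      exact (f.2 _).2.symm
    · simp [P.hφ, h, h.not_gt, h.ne, ← mul_assoc, P.u_sq]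
  · have h := congrArg Subtype.val h
    refine Prod.ext (funext fun a => ?_) (funext fun a => Subtype.ext ?_)
    · simpa [a.2] using congrFun h a.1
    · simpa [a.2] using congrFun h a.1

theorem card_split : 2 * Nat.card {a // a < P.φ a} + Nat.card {a // P.φ a = a} = n := by
  simp only [Nat.card_eq_fintype_card, Fintype.card_subtype]
  have h1 : (Finset.univ.filter fun a => a < P.φ a).card = (Finset.univ.filter fun a => P.φ a < a).card :=
    Finset.card_bijective P.φ P.φ.bijective fun a => by simp [P.hφ]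
  have h2 := Finset.card_filter_add_card_filter_not (s := Finset.univ) fun a => a < P.φ a
  have h3 : (Finset.univ.filter fun a => ¬ a < P.φ a) =
      (Finset.univ.filter fun a => P.φ a < a) ∪ Finset.univ.filter fun a => P.φ a = a := by
    ext a; simp [le_iff_lt_or_eq]
  rw [h3, Finset.card_union_of_disjoint (Finset.disjoint_filter.2 fun a _ h => h.ne), Finset.card_univ,
    Fintype.card_fin] at h2
  omega

theorem val_DD {a : ℕ} (h : 2 ^ a ≤ Nat.card P.DD) : a ≤ padicValNat 2 (Nat.card P.DD) := by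
  have h1 := P.DD.card_addSubgroup_dvd_card
  rw [Nat.card_fun, Nat.card_zmod, ← pow_mul] at h1
  obtain ⟨k, -, hk⟩ := (Nat.dvd_prime_pow Nat.prime_two).1 h1
  rw [hk] at h ⊢
  rw [padicValNat.prime_pow]
  exact (Nat.pow_le_pow_iff_right (by norm_num)).1 h

theorem val_Mon (hn : 2 ≤ n) (T : Sylow 2 (Perm (Fin n)))
    (hT : ∀ t ∈ (T : Subgroup (Perm (Fin n))), ∀ j, P.φ (t j) = t (P.φ j)) :
    padicValNat 2 (Nat.card P.DD) + padicValNat 2 n.factorial ≤ padicValNat 2 (Nat.card (Mon P)) := by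
  have h1 : Nat.card (Mon.pr (P := P)).ker = Nat.card P.DD := Nat.card_congr
    ⟨fun m => ⟨m.1.x, m.1.tw, by rw [m.1.det, show m.1.π = 1 from m.2]; simp⟩,
      fun x => ⟨⟨x.1, 1, fun _ => rfl, x.2.1, by simp [x.2.2]⟩, rfl⟩,
      fun m => Subtype.ext (Mon.ext rfl (show m.1.π = 1 from m.2).symm), fun _ => rfl⟩
  obtain ⟨c, hc⟩ : Nat.card T ∣ Nat.card (Mon.pr (P := P)).range := Subgroup.card_dvd_of_le fun t ht =>
    Mon.exists_pi hn t fun j => (hT t ht j).symm
  have h0 : Nat.card (Mon.pr (P := P)).range ≠ 0 := Nat.card_pos.ne'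
  rw [← (Mon.pr (P := P)).ker.card_mul_index, Subgroup.index_ker, h1, padicValNat.mul Nat.card_pos.ne' h0, hc,
    padicValNat.mul Nat.card_pos.ne' (right_ne_zero_of_mul (hc ▸ h0)), Wr.padicValNat_sylow, Nat.card_perm,
    Nat.card_fin]
  omega

theorem card_YY (hu : P.u ≠ 1) : Nat.card P.YY ≤ 2 := by
  rcases P.cs' with h | ⟨he, hu, -, -⟩
  · exact (hu h.1).elim
  have : (P.YY : Set P.R) ⊆ {0, P.h} := fun c (hc : P.u * c = c) => P.tors (by
    rw [hu] at hc
    rcases P.h_mul c with h | h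
    · linear_combination h - hc
    · have h2 : P.h * (2 * c) = P.h * P.h := by rw [show 2 * c = P.h by linear_combination h - hc]
      rcases P.tors (c := c - P.k) (by linear_combination h - hc - P.two_k) with e | e
      · exact (P.h_ne (by linear_combination -h + P.h * e + P.k_h he)).elim
      · exact (P.h_ne (by linear_combination -h + P.h * e + P.k_h he + P.h_h)).elim)
  exact (Set.ncard_le_ncard this).trans ((Set.ncard_insert_le _ _).trans (by simp))

end Par

theorem val_SL (hn : 1 ≤ n) (F : Type*) [Field F] [Fintype F] (hq : Odd (Fintype.card F)) {a f : ℕ}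
    (h : 2 * a + f = n) (hf : f ≤ 1) :
    padicValNat 2 (Fintype.card F - 1) + padicValNat 2 (Nat.card (Matrix.SpecialLinearGroup (Fin n) F)) =
      a * padicValNat 2 (Fintype.card F ^ 2 - 1) + (a + f) * padicValNat 2 (Fintype.card F - 1) +
        padicValNat 2 a.factorial ∧ padicValNat 2 n.factorial = padicValNat 2 a.factorial + a := by
  haveI : Nonempty (Fin n) := ⟨⟨0, hn⟩⟩
  have h1 : 1 < Fintype.card F := Fintype.one_lt_card
  have h2 := Wr.val_prod_gl hq h1 a
  rw [← padicValNat.mul (by omega) Nat.card_pos.ne', Linear.card_SL_mul, Linear.card_GL, Linear.prod_pow_sub_pow,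
    Wr.val_pow_mul hq _ (Wr.prod_ne_zero h1 _ _ (by simp)), Fintype.card_fin, ← h,
    padicValNat_factorial_mul_add a (by omega), padicValNat_factorial_mul]
  refine ⟨?_, rfl⟩
  interval_cases f
  · rw [add_zero, h2.1]; ring
  · rw [h2.2]; ring

end Cfsg.Lib.PSLF
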