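import Cfsg.Agent.Lib.PSLF.Grp
import Cfsg.Agent.Lib.Transfer.Criteria
import Cfsg.Agent.Lib.Fusion.Normal
import Cfsg.Agent.Lib.Fusion.Group
import Cfsg.Agent.S5093
import Cfsg.Agent.S5097
import Cfsg.Agent.S5132
import Cfsg.Agent.S5134
import Cfsg.Agent.S5198
import Cfsg.Agent.S5293

/-! A normal subsystem with trivial centralizer and without outer automorphisms of odd order of the 2-fusion system of
a simple group is the whole system. -/
set_option autoImplicit false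

namespace Cfsg.Lib.PSLF
open Subgroup Cfsg.Lib.Fusion Cfsg.Agent
open Cfsg.FusionSystem hiding inv_mem conj_mem center

variable {G L : Type*} [Group G] [Group L]

theorem fus_rigid {S T : Subgroup G} {F : FusionSystem S} {E : FusionSystem T} (hE : E.IsInvariantIn F) (ι : T →* L)
    (hι : E.IsRealizedBy ι) (hr : ∀ α : MulAut ι.range, Odd (orderOf α) → FusPres _ α → α = 1) :
    ∀ α ∈ F.autGroup T, Odd (orderOf α) → α = 1 := by
  intro α hα ho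
  let e : T ≃* ι.range := MonoidHom.ofInjective hι.1
  refine (MulAut.congr e).injective ((hr (MulAut.congr e α) (by rwa [MulEquiv.orderOf_eq]) fun Q hQ g hg => ?_).trans
    (map_one _).symm)
  let P : Subgroup G := (Q.comap ι).map T.subtype
  have hP : P ≤ T := map_subtype_le _
  have h1 : ∀ x : P, g * ι ⟨x, hP x.2⟩ * g⁻¹ ∈ ι.range := by
    rintro ⟨_, y, hy, rfl⟩
    exact hg _ hy
  let φ : P →* G := T.subtype.comp (e.symm.toMonoidHom.comp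
    (((MulAut.conj g).toMonoidHom.comp (ι.comp (inclusion hP))).codRestrict _ h1))
  have hφ : ∀ x, φ x ∈ T := fun x => (e.symm _).2
  have h2 : ∀ x : P, ι ⟨φ x, hφ x⟩ = g * ι ⟨x, hP x.2⟩ * g⁻¹ := fun x =>
    congrArg Subtype.val (e.apply_symm_apply ⟨_, h1 x⟩)
  obtain ⟨χ, hχ, h3⟩ := hE.2.2.1 P hP φ ((hι.2 P hP φ hφ).2 ⟨g, h2⟩) α hα
  obtain ⟨h, h4⟩ := (hι.2 _ (E.le_of_mem hχ).1 χ (E.le_of_mem hχ).2).1 hχ
  refine ⟨h, ?_⟩
  rintro _ ⟨y, rfl⟩ hx' hx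
  have hy : y.1 ∈ P := ⟨y, hx, rfl⟩
  have h5 := h4 ⟨α y, y, hy, rfl⟩
  have e1 : e.symm ⟨ι y, y, rfl⟩ = y := e.symm_apply_apply y
  have e2 : e.symm ⟨_, hx'⟩ = ⟨φ ⟨y, hy⟩, hφ _⟩ := rfl
  change ι (α (e.symm _)) = h * ι (α (e.symm _)) * h⁻¹
  rw [e1, e2, ← h5]
  exact congrArg ι (Subtype.ext (h3 ⟨y, hy⟩ _ _).symm)

theorem reduce [Finite G] [IsSimpleGroup G] (hG : ¬ IsMulCommutative G) (S : Sylow 2 G) {T : Subgroup G}
    (E : FusionSystem T) (hE : E.IsNormalIn (groupFusionSystem (S : Subgroup G)) 2)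
    (hr : ∀ α ∈ (groupFusionSystem (S : Subgroup G)).autGroup T, Odd (orderOf α) → α = 1)
    (hC : ∀ Y ≤ centralizerIn (S : Subgroup G) T,
      (∀ P, E.Hom P ⊆ (groupFusionSystem (S : Subgroup G)).centralizerHom Y P) → Y = ⊥) :
    T = S ∧ ∀ P, E.Hom P = (groupFusionSystem (S : Subgroup G)).Hom P := by
  set F := groupFusionSystem (S : Subgroup G)
  have hF : Sat F 2 := sat_group S
  obtain ⟨hsub, hT, -, hFr⟩ := hE.1.2.2
  have hyp : F.hyperfocalSubgroup 2 = S := by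
    rw [S5093.result, Transfer.pResidual_eq_top_of_simple hG, inf_top_eq]
  have h1 : ∀ s ∈ (S : Subgroup G), ∃ t ∈ T, ∀ x ∈ T, s * x * s⁻¹ = t * x * t⁻¹ := fun s hs => by
    obtain ⟨α, hα, e⟩ := S5198.result 2 hF.pg F hF.sat T hT s (hyp.ge hs)
    rw [show pResidual 2 (F.autGroup T) = ⊥ from closure_eq_bot_iff.2 fun β hβ => Subtype.ext
      (hr _ β.2 (by rw [orderOf_coe]; exact Nat.Coprime.odd_of_right hβ)), Subgroup.map_bot, bot_sup_eq] at hα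
    obtain ⟨t, rfl⟩ := hα
    exact ⟨t, t.2, fun x hx => (e ⟨x, hx⟩).symm⟩
  have h2 : ∀ α ∈ F.autGroup T, ∃ t ∈ T, ∀ x : T, (α x : G) = t * x * t⁻¹ := fun α hα => by
    rw [hF.autGroup_eq_of_isPGroup (fullyNormalized_of_stronglyClosed hT)
      (isPGroup_of_coprime_eq_one fun β hβ hc => hr β hβ hc.odd_of_right)] at hα
    obtain ⟨s, hs, e⟩ := mem_autInducedBy.1 hα
    obtain ⟨t, ht, e'⟩ := h1 s hs
    exact ⟨t, ht, fun x => by rw [← e' _ x.2, ← e _ x.2, ext_coe]⟩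
  obtain ⟨D, hD⟩ := S5097.result F T hT.1
  have h3 := S5293.result 2 hF.pg F hF.sat E hE ⊥ (le_antisymm bot_le (sSup_le fun Y hY => (hC Y hY.1 hY.2).le)) D hD
  have hN : (T.subgroupOf S).Normal := ⟨fun t ht s => by
    obtain ⟨u, hu, e⟩ := h1 s s.2
    change s.1 * t.1 * s.1⁻¹ ∈ T
    rw [e t.1 ht]
    exact mul_mem (mul_mem hu ht) (inv_mem hu)⟩
  have h4 : ∀ c ∈ centralizerIn (S : Subgroup G) T, ∀ g ∈ centralizer (T : Set G), g * c * g⁻¹ ∈ (S : Subgroup G) →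
      g * c * g⁻¹ = c := fun c hc g hg hs => by
    have hle : zpowers c ≤ centralizerIn (S : Subgroup G) T := zpowers_le.2 hc
    have key : ∀ x ∈ zpowers c ⊔ T, g * x * g⁻¹ ∈ (S : Subgroup G) := fun x hx =>
      (sup_le (zpowers_le.2 hs) fun t ht => by
        change g * t * g⁻¹ ∈ (S : Subgroup G)
        rw [← hg t ht, mul_inv_cancel_right]; exact hT.1 ht :
        zpowers c ⊔ T ≤ (S : Subgroup G).comap (MulAut.conj g).toMonoidHom) hx
    have k2 : ∀ x : zpowers c, conjHom _ g x ∈ (S : Subgroup G) := fun x => key _ (mem_sup_left x.2)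
    have : conjHom (zpowers c) g ∈ D.Hom _ := by
      rw [hD]
      refine ⟨⟨hle.trans inf_le_left, k2, g, fun _ => rfl⟩, hle,
        fun x => ⟨k2 x, Subgroup.mul_mem _ (Subgroup.mul_mem _ hg (hle x.2).2) (inv_mem hg)⟩, conjHom _ g,
        ⟨sup_le (hle.trans inf_le_left) hT.1, fun x => key _ x.2, g, fun _ => rfl⟩, fun _ => rfl, fun t => ?_⟩
      change g * t * g⁻¹ = t
      rw [← hg t t.2, mul_inv_cancel_right]
    exact (inv_mul_eq_one.1 (h3 (subset_closure ⟨_, _, ⟨c, mem_zpowers c⟩, this, rfl⟩))).symm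
  have h5 : ∀ P φ, φ ∈ F.Hom P → ∀ x : P, x.1⁻¹ * φ x ∈ T := fun P φ hφ x => by
    obtain ⟨Q, hQ⟩ := S5132.result 2 hF.pg F T hT
    obtain ⟨hm, -, hs⟩ := S5134.result 2 hF.pg F hF.sat T hT _ Q hQ
    obtain ⟨φ', hφ', hP, hφS, hP', e⟩ := hm.2 P φ hφ
    obtain ⟨ψ, hψ, hR, hψS, hR', e'⟩ := hs _ le_top φ' hφ'
    have hx : x.1 ∈ preimageAlong (QuotientGroup.mk' (T.subgroupOf S))
      (imageAlong (QuotientGroup.mk' (T.subgroupOf S)) P) := ⟨⟨x, hP x.2⟩, hP' x, rfl⟩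
    have hTR : T ≤ preimageAlong (QuotientGroup.mk' (T.subgroupOf S))
        (imageAlong (QuotientGroup.mk' (T.subgroupOf S)) P) := fun t ht =>
      ⟨⟨t, hT.1 ht⟩, by
        refine mem_comap.2 ?_
        rw [(hQ.2.1 ⟨t, hT.1 ht⟩).2 ht]; exact one_mem _, rfl⟩
    have e1 := QuotientGroup.eq.1 ((e' ⟨x, hx⟩).symm.trans (e x))
    obtain ⟨-, -, g, hg⟩ := id hψ
    have hgT : ∀ t ∈ T, g * t * g⁻¹ ∈ T := fun t ht => hg ⟨t, hTR ht⟩ ▸ fn_coe ψ ⟨t, hTR ht⟩ ▸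
      (mor_fn hψ).mem_of_stronglyClosed hT (hTR ht) ht
    have hgN : g ∈ normalizer (T : Set G) := mem_normalizer_fintype hgT
    obtain ⟨u, hu, e2⟩ := h2 (T.normalizerMonoidHom ⟨g, hgN⟩)
      (subset_closure ⟨hT.1, fun t => hT.1 (hgT _ t.2), g, fun _ => rfl⟩)
    obtain ⟨v, hv, e3⟩ := h1 x (hP x.2)
    have hc : v⁻¹ * x ∈ centralizerIn (S : Subgroup G) T := ⟨Subgroup.mul_mem _ (inv_mem (hT.1 hv)) (hP x.2), fun t ht => by
      calc _ = v⁻¹ * (v * t * v⁻¹) * x := by group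
        _ = _ := by rw [← e3 t ht]; group⟩
    have hk : u⁻¹ * g ∈ centralizer (T : Set G) := fun t ht => by
      calc _ = u⁻¹ * (u * t * u⁻¹) * g := by group
        _ = _ := by rw [← e2 ⟨t, ht⟩]; change u⁻¹ * (g * t * g⁻¹) * g = _; group
    have e4 : ψ ⟨x, hx⟩ = g * v * g⁻¹ * (g * (v⁻¹ * x) * g⁻¹) := by rw [hg]; group
    have e5 := h4 _ hc _ hk (by
      have := mul_mem (mul_mem (inv_mem (hT.1 hu)) (mul_mem (inv_mem (hT.1 (hgT v hv))) (hψS ⟨x, hx⟩))) (hT.1 hu)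
      rw [e4] at this
      convert this using 1
      group)
    have e6 : g * (v⁻¹ * x) * g⁻¹ = v⁻¹ * x := by
      calc _ = u * (u⁻¹ * g * (v⁻¹ * x) * (u⁻¹ * g)⁻¹) * u⁻¹ := by group
        _ = _ := by rw [e5, hc.2 u hu, mul_inv_cancel_right]
    have e7 : x.1⁻¹ * φ x = (x.1⁻¹ * (g * v * g⁻¹ * v⁻¹) * x) * ((ψ ⟨x, hx⟩)⁻¹ * φ x) := by rw [e4, e6]; group
    rw [e7]
    exact mul_mem (hN.conj_mem' ⟨_, hT.1 (mul_mem (hgT v hv) (inv_mem hv))⟩ (mul_mem (hgT v hv) (inv_mem hv))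
      ⟨x, hP x.2⟩) e1
  have hTS : T = S := le_antisymm hT.1 (hyp.ge.trans ((closure_le _).2 (by
    rintro _ ⟨P, α, x, hP, -, rfl⟩
    exact ext_coe α.1 x ▸ h5 P _ (mor_ext hP α.2).toHom_mem x)))
  refine ⟨hTS, fun P => (hsub P).antisymm fun φ hφ => ?_⟩
  obtain ⟨α, hα, ψ, hψ, e⟩ := hFr P (hφ.1.trans hTS.ge) φ hφ
  obtain ⟨t, ht, e'⟩ := h2 α hα
  have hm := (E.le_of_mem hψ).2
  convert E.comp_mem hψ (E.conj_mem le_rfl ht) hm using 1
  exact MonoidHom.ext fun x => (e x (hm x)).trans (e' _)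

end Cfsg.Lib.PSLF
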