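import Cfsg.Agent.Lib.PSLF.Vec

/-! Transpositions are recognised by their action on the diagonal part modulo scalars. -/
set_option autoImplicit false

namespace Cfsg.Lib.PSLF
open Equiv

variable {n : ℕ}

theorem card_four {a b c d : Fin n} (ab : a ≠ b) (ac : a ≠ c) (ad : a ≠ d) (bc : b ≠ c) (bd : b ≠ d) (cd : c ≠ d) :
    ({a, b, c, d} : Finset (Fin n)).card = 4 := by
  rw [Finset.card_insert_of_notMem (by simp [*]), Finset.card_insert_of_notMem (by simp [*]), Finset.card_pair cd]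

theorem enum_four (hn : n = 4) {a b c d : Fin n} (ab : a ≠ b) (ac : a ≠ c) (ad : a ≠ d) (bc : b ≠ c) (bd : b ≠ d)
    (cd : c ≠ d) (j : Fin n) : j = a ∨ j = b ∨ j = c ∨ j = d := by
  have := Finset.eq_univ_of_card _ ((card_four ab ac ad bc bd cd).trans (by simp [hn]))
  simpa using Finset.eq_univ_iff_forall.1 this j

theorem eq_four {a b c d : Fin n} (ab : a ≠ b) (ac : a ≠ c) (ad : a ≠ d) (bc : b ≠ c) (bd : b ≠ d)
    (cd : c ≠ d) (h : ∀ j, j = a ∨ j = b ∨ j = c ∨ j = d) : n = 4 := by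
  have : ({a, b, c, d} : Finset (Fin n)) = Finset.univ := Finset.eq_univ_iff_forall.2 (by simpa using h)
  rw [← card_four ab ac ad bc bd cd, this]
  simp

theorem sum_four {M : Type*} [AddCommMonoid M] (hn : n = 4) {a b c d : Fin n} (ab : a ≠ b) (ac : a ≠ c) (ad : a ≠ d)
    (bc : b ≠ c) (bd : b ≠ d) (cd : c ≠ d) (f : Fin n → M) : ∑ j, f j = f a + f b + f c + f d := by
  have : ({a, b, c, d} : Finset (Fin n)) = Finset.univ :=
    Finset.eq_univ_iff_forall.2 (by simpa using enum_four hn ab ac ad bc bd cd)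
  rw [← this, Finset.sum_insert (by simp [*]), Finset.sum_insert (by simp [*]), Finset.sum_pair cd, add_assoc, add_assoc]

/-- `r - 1` takes two distinct values of order two -/
def Two {A : Type*} [AddCommGroup A] (r : A → A) : Prop :=
  ∃ y z, 2 • (r y - y) = 0 ∧ 2 • (r z - z) = 0 ∧ r y - y ≠ 0 ∧ r z - z ≠ 0 ∧ r y - y ≠ r z - z

/-- the image of `r - 1` is cyclic of order `2 ^ m` -/
def Rf {A : Type*} [AddCommGroup A] (m : ℕ) (r : A → A) : Prop :=
  ¬ Two r ∧ (∀ y, 2 ^ m • (r y - y) = 0) ∧ ∃ y, 2 ^ (m - 1) • (r y - y) ≠ 0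

theorem Rf.conj {A : Type*} [AddCommGroup A] {m : ℕ} {r r' : A → A} (a : A ≃+ A) (h : ∀ y, a (r y) = r' (a y))
    (H : Rf m r) : Rf m r' := by
  have e : ∀ y, r' (a y) - a y = a (r y - y) := fun y => by rw [map_sub, h]
  refine ⟨fun ⟨y, z, h1⟩ => H.1 ?_, fun y => ?_, ?_⟩
  · obtain ⟨y, rfl⟩ := a.surjective y
    obtain ⟨z, rfl⟩ := a.surjective z
    simp only [e, ← map_nsmul, ne_eq, EmbeddingLike.map_eq_zero_iff, EmbeddingLike.apply_eq_iff_eq] at h1
    exact ⟨y, z, h1⟩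
  · obtain ⟨y, rfl⟩ := a.surjective y
    rw [e, ← map_nsmul, H.2.1, map_zero]
  · obtain ⟨y, hy⟩ := H.2.2
    exact ⟨a y, by rwa [e, ← map_nsmul, ne_eq, EmbeddingLike.map_eq_zero_iff]⟩

namespace Par
variable {P : Par n}

theorem vv_nf {a : Fin n} (h : P.φ a ≠ a) (j : Fin n) :
    P.vv a j = if j = a then 1 else if j = P.φ a then P.u else 0 := by
  simp [vv, h]

theorem d_cl (w : P.W) (x : Fin n → P.R) (hx : x ∈ P.DD) :
    ρ w (cl x hx) - cl x hx = cl (fun j => x (w.1⁻¹ j) - x j) (sub_mem (act_mem w hx) hx) := rfl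

theorem nsmul_d (t : ℕ) (w : P.W) (x : Fin n → P.R) (hx : x ∈ P.DD) :
    t • (ρ w (cl x hx) - cl x hx) = 0 ↔ P.Cst fun j => t * (x (w.1⁻¹ j) - x j) := by
  rw [d_cl, cl_nsmul, cl_eq_zero]; rfl

theorem two_of (w : P.W) {x y : Fin n → P.R} (hx : x ∈ P.DD) (hy : y ∈ P.DD) (u v : Fin n → P.R)
    (hu : ∀ j, x (w.1⁻¹ j) - x j = u j) (hv : ∀ j, y (w.1⁻¹ j) - y j = v j)
    (h1 : ∀ i j, 2 * u i = 2 * u j) (h2 : ∀ i j, 2 * v i = 2 * v j) (h3 : ¬ P.Cst u) (h4 : ¬ P.Cst v)
    (h5 : ¬ P.Cst (u - v)) : Two (ρ w) := by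
  refine ⟨cl x hx, cl y hy, ?_, ?_, ?_, ?_, ?_⟩
  · rw [nsmul_d]; simpa only [hu, Cst, Nat.cast_ofNat] using h1
  · rw [nsmul_d]; simpa only [hv, Cst, Nat.cast_ofNat] using h2
  · rw [d_cl, ne_eq, cl_eq_zero]; simpa only [hu] using h3
  · rw [d_cl, ne_eq, cl_eq_zero]; simpa only [hv] using h4
  · rw [d_cl, d_cl, ne_eq, cl_eq]; simpa only [hu, hv] using h5

theorem vv_phi_eq (a : Fin n) (i : Fin n) : P.vv (P.φ a) i = P.u * P.vv a i := by
  have := vv_act ⟨P.φ, mem_W.2 fun _ => rfl⟩ a i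
  rw [show (P.φ⁻¹ : Perm _) i = P.φ i from Perm.inv_eq_iff_eq.2 (P.hφ i).symm, vv_tw] at this
  exact this.symm

theorem two_one (hu : P.u = 1) (hφ : P.φ = 1) (w : P.W) {a b c d : Fin n} (ab : a ≠ b) (ac : a ≠ c) (ad : a ≠ d)
    (bc : b ≠ c) (bd : b ≠ d) (cd : c ≠ d) (ha : w.1 a = b) (hb : w.1 b = a) (hc : w.1 c = d) (hd : w.1 d = c) :
    Two (ρ w) := by
  have e1 : ∀ {a b : Fin n}, w.1 a = b → w.1 b = a → ∀ j, (P.k • (P.vv a - P.vv b)) (w.1⁻¹ j) -
      (P.k • (P.vv a - P.vv b)) j = P.h * (P.vv b j - P.vv a j) := fun ha hb j => by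
    simp only [Pi.smul_apply, Pi.sub_apply, vv_act, ha, hb, smul_eq_mul, ← P.two_k]; ring
  have e2 : ∀ (x : Fin n → P.R) i j, 2 * (P.h * x i) = 2 * (P.h * x j) := fun x i j => by
    linear_combination (x i - x j) * P.two_h
  have hh := P.h_ne
  by_cases h5 : ∃ j, j ≠ a ∧ j ≠ b ∧ j ≠ c ∧ j ≠ d
  · obtain ⟨j, ja, jb, jc, jd⟩ := h5
    refine two_of w (P.smul_mem _ (vv_sub_mem a b)) (P.smul_mem _ (vv_sub_mem c d)) _ _ (e1 ha hb) (e1 hc hd)
      (e2 fun j => _) (e2 fun j => _) (fun h => ?_) (fun h => ?_) fun h => ?_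
    · simpa [vv_one hu hφ, *, ab.symm] using h b j
    · simpa [vv_one hu hφ, *, cd.symm] using h d j
    · simpa [vv_one hu hφ, *, ab.symm] using h b j
  · have h6 : ∀ j, j = a ∨ j = b ∨ j = c ∨ j = d := fun j => by by_contra! H; exact h5 ⟨j, H⟩
    refine two_of w (P.smul_mem _ (vv_sub_mem a b)) (P.smul_mem P.k (vv_sub_mem a c)) _
      (fun j => P.k * (P.vv b j - P.vv d j - P.vv a j + P.vv c j)) (e1 ha hb) (fun j => ?_)
      (e2 fun j => _) (fun i j => ?_) (fun h => ?_) (fun h => ?_) fun h => ?_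
    · simp only [Pi.smul_apply, Pi.sub_apply, vv_act, ha, hc, smul_eq_mul]; ring
    · have : ∀ i, 2 * (P.k * (P.vv b i - P.vv d i - P.vv a i + P.vv c i)) = P.h := fun i => by
        rcases h6 i with rfl | rfl | rfl | rfl <;> simp [vv_one hu hφ, *, ab.symm, ac.symm, ad.symm, bc.symm, bd.symm, cd.symm, P.two_k] <;>
          linear_combination -P.two_h
      rw [this, this]
    · simpa [vv_one hu hφ, *, ab.symm, ac.symm, bc.symm] using h b c
    · have := h a b
      simp [vv_one hu hφ, *, ab.symm] at this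
      exact hh (by linear_combination -this - P.two_k)
    · have := h a b
      simp [vv_one hu hφ, *, ab.symm] at this
      exact hh (by linear_combination this + P.two_h - P.two_k)

theorem nf_phi {a : Fin n} (h : P.φ a ≠ a) : P.φ (P.φ a) ≠ P.φ a := P.φ.injective.ne h

theorem nf_w (w : P.W) {a : Fin n} (h : P.φ a ≠ a) : P.φ (w.1 a) ≠ w.1 a := by
  rw [← comm]; exact w.1.injective.ne h

theorem d_k (he : 3 ≤ P.e) (hu : P.u = P.h - 1) (w : P.W) {a : Fin n} (ha : w.1 a = P.φ a) (j : Fin n) :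
    (P.k • P.vv a) (w.1⁻¹ j) - (P.k • P.vv a) j = P.h * P.vv a j := by
  simp only [Pi.smul_apply, vv_act, ha, smul_eq_mul, vv_phi_eq, hu]
  linear_combination P.vv a j * P.k_h he - P.vv a j * P.two_k - P.vv a j * P.two_h

theorem two_pairs (he : 3 ≤ P.e) (hu : P.u = P.h - 1) (hu' : P.u ≠ 1) (w : P.W) {a c j : Fin n} (ha : P.φ a ≠ a)
    (ha' : w.1 a = P.φ a) (hc : P.φ c ≠ c) (hc' : w.1 c = P.φ c) (h1 : a ≠ c) (h2 : a ≠ P.φ c) (ja : j ≠ a)
    (jb : j ≠ P.φ a) (jc : j ≠ c) (jd : j ≠ P.φ c) : Two (ρ w) := by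
  have e2 : ∀ (x : Fin n → P.R) i j, 2 * (P.h * x i) = 2 * (P.h * x j) := fun x i j => by
    linear_combination (x i - x j) * P.two_h
  have hh := P.h_ne
  refine two_of w (vv_smul_mem hu' (P.k_h he) a) (vv_smul_mem hu' (P.k_h he) c) _ _ (d_k he hu w ha') (d_k he hu w hc')
    (e2 _) (e2 _) (fun h => ?_) (fun h => ?_) fun h => ?_
  · simpa [vv_nf ha, *] using h a j
  · simpa [vv_nf hc, *] using h c j
  · simpa [vv_nf ha, vv_nf hc, *] using h a j

/-- the order of the image of `r - 1` for a transposition -/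
def m (P : Par n) : ℕ := if P.u = 1 then P.e else P.e - 1

theorem swap_mem {a b : Fin n} (ab : a ≠ b) (h : swap a b ∈ P.W) : P.u = 1 ∧ P.φ = 1 ∨ P.φ a = b := by
  rcases P.cs' with h1 | ⟨-, -, hu, hφ⟩
  · exact Or.inl h1
  right
  by_contra h2
  have h3 := mem_W.1 h a
  rw [swap_apply_left] at h3
  by_cases h4 : P.φ a = a
  · have := fix_of hu ⟨_, h⟩ h4
    exact ab (by simpa using this.symm)
  · rw [swap_apply_of_ne_of_ne h4 h2] at h3
    exact ab (P.φ.injective h3)

theorem d_swap (a b : Fin n) (x : Fin n → P.R) (j : Fin n) :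
    x ((swap a b)⁻¹ j) - x j = if j = a then x b - x a else if j = b then x a - x b else 0 := by
  simp only [swap_inv, swap_apply_def]
  split_ifs with h1 h2 <;> simp [*]

theorem rf_swap (hn : 3 ≤ n) {a b : Fin n} (ab : a ≠ b) (h : swap a b ∈ P.W) : Rf P.m (ρ ⟨_, h⟩) := by
  obtain ⟨l, la, lb⟩ := exists_third hn a b
  refine ⟨fun ⟨y, z, h1, h2, h3, h4, h5⟩ => ?_, fun y => ?_, ?_⟩
  · obtain ⟨y, hy, rfl⟩ := cl_surj y
    obtain ⟨z, hz, rfl⟩ := cl_surj z
    have key : ∀ y hy, 2 • (ρ ⟨_, h⟩ (cl y hy) - cl y hy) = 0 → ρ ⟨_, h⟩ (cl y hy) - cl y hy ≠ 0 →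
        y a - y b = P.h := fun y hy h1 h3 => by
      rw [nsmul_d] at h1
      have := h1 b l
      simp only [d_swap, if_neg ab.symm, if_true, if_neg la, if_neg lb, mul_zero, Nat.cast_ofNat] at this
      refine (P.tors this).resolve_left fun e => h3 ?_
      rw [d_cl, cl_eq_zero]
      have : ∀ j, y ((swap a b)⁻¹ j) - y j = 0 := fun j => by
        rw [d_swap, e, show y b - y a = 0 by linear_combination -e]; simp
      intro i j
      simp only [this]
    apply h5
    rw [d_cl, d_cl]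
    congr 1
    ext j
    have e1 := key y hy h1 h3
    have e2 := key z hz h2 h4
    rw [d_swap, d_swap, e1, e2, show y b - y a = z b - z a by linear_combination e2 - e1]
  · obtain ⟨y, hy, rfl⟩ := cl_surj y
    rw [nsmul_d]
    have : ((2 ^ P.m : ℕ) : P.R) * (y a - y b) = 0 := by
      rcases P.cs' with ⟨hu, -⟩ | ⟨he, hu', hu, -⟩
      · simp [m, hu]
      · rw [← (swap_mem ab h).resolve_left fun e => hu e.1, hy.1, m, if_neg hu]
        push_cast
        change P.h * _ = 0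
        linear_combination -y a * P.h_u
    have h2 : ∀ j, ((2 ^ P.m : ℕ) : P.R) * (y ((swap a b)⁻¹ j) - y j) = 0 := fun j => by
      rw [d_swap]
      split_ifs
      exacts [by linear_combination -this, this, mul_zero _]
    intro i j
    simp only [h2]
  · refine ⟨P.g a l, fun e => ?_⟩
    rw [g, nsmul_d] at e
    have := e b l
    simp only [d_swap, if_neg ab.symm, if_true, if_neg la, if_neg lb, mul_zero] at this
    simp only [Pi.sub_apply] at this
    rcases P.cs' with ⟨hu, hφ⟩ | ⟨he, hu', hu, -⟩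
    · simp [vv_one hu hφ, m, hu, la.symm, lb.symm, ab.symm] at this
      exact P.h_ne this
    · have h1 := (swap_mem ab h).resolve_left fun e => hu e.1
      subst h1
      rw [vv_self (Or.inr ab.symm), vv_phi ab.symm, vv_ne la.symm (fun e => lb (phi_eq_iff.2 e).symm),
        vv_ne lb.symm (P.φ.injective.ne la.symm), m, if_neg hu, show P.e - 1 - 1 = P.e - 2 by omega, hu'] at this
      push_cast at this
      change P.k * _ = 0 at this
      exact P.h_ne (by linear_combination this - P.two_k + P.k_h he)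

theorem isSwap_of_rf (w : P.W) (hw : ∀ j, w.1 (w.1 j) = j) (H : Rf P.m (ρ w)) : w.1.IsSwap := by
  obtain ⟨h1, h2, y0, h3⟩ := H
  obtain ⟨a, ha⟩ : ∃ a, w.1 a ≠ a := by
    by_contra! H
    rw [show w = 1 from Subtype.ext (Equiv.ext H), ρ_one, sub_self, smul_zero] at h3
    exact h3 rfl
  by_contra hs
  obtain ⟨c, hc, ca, cb⟩ : ∃ c, w.1 c ≠ c ∧ c ≠ a ∧ c ≠ w.1 a := by
    by_contra! H
    refine hs ⟨a, w.1 a, ha.symm, Equiv.ext fun j => ?_⟩
    rw [swap_apply_def]
    split_ifs with e1 e2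
    · rw [e1]
    · rw [e2, hw]
    · by_contra e3
      exact e2 (H j e3 e1)
  have hi : ∀ {i j}, w.1 i = j ↔ i = w.1 j := ⟨fun e => by rw [← e, hw], fun e => by rw [e, hw]⟩
  have hinv : ∀ j, w.1⁻¹ j = w.1 j := fun j => Perm.inv_eq_iff_eq.2 (hw j).symm
  rcases P.cs' with ⟨hu, hφ⟩ | ⟨he, hu', hu, hφ⟩
  · exact h1 (two_one hu hφ w ha.symm ca.symm (fun e => cb (hi.1 e.symm)) cb.symm (w.1.injective.ne ca.symm) hc.symm
      rfl (hw a) rfl (hw c))
  have hm1 : ((2 ^ P.m : ℕ) : P.R) = P.h := by rw [m, if_neg hu]; push_cast; rfl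
  have hm2 : ((2 ^ (P.m - 1) : ℕ) : P.R) = P.k := by
    rw [m, if_neg hu, show P.e - 1 - 1 = P.e - 2 by omega]; push_cast; rfl
  have hh := P.h_ne
  have hhu := P.h_u
  obtain ⟨x, hx, rfl⟩ := cl_surj y0
  rw [ne_eq, nsmul_d, hm2] at h3
  have nf : ∀ {a}, w.1 a ≠ a → P.φ a ≠ a := fun h e => h (fix_of hu w e)
  -- the case of four points
  have four : ∀ a c, P.φ a ≠ a → P.φ c ≠ c → a ≠ c → a ≠ P.φ c →
      (∀ j, j = a ∨ j = P.φ a ∨ j = c ∨ j = P.φ c) → P.h * x a = P.h * x c := fun a c ha hc ac ad H => by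
    have h4 : P.φ a ≠ c := fun e => ad (phi_eq_iff.1 e)
    have h5 := hx.2
    rw [sum_four (eq_four ha.symm ac ad h4 (P.φ.injective.ne ac) hc.symm H) ha.symm ac ad h4 (P.φ.injective.ne ac)
      hc.symm, hx.1, hx.1, hu'] at h5
    linear_combination h5 - x c * P.two_h
  by_cases hcp : ∃ a, w.1 a ≠ a ∧ w.1 a ≠ P.φ a
  · clear ha hc ca cb a c
    obtain ⟨a, ha, ha'⟩ := hcp
    have fa := nf ha
    have fb := nf_w w fa
    have e1 : a ≠ P.φ (w.1 a) := fun e => ha' (phi_eq_iff.2 e).symm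
    have e2 : P.φ a ≠ P.φ (w.1 a) := P.φ.injective.ne ha.symm
    by_cases h5 : ∃ l, l ≠ a ∧ l ≠ P.φ a ∧ l ≠ w.1 a ∧ l ≠ P.φ (w.1 a)
    · obtain ⟨l, l1, l2, l3, l4⟩ := h5
      have k1 : w.1 l ≠ a := fun e => l3 (hi.1 e)
      have k2 : w.1 l ≠ P.φ a := fun e => l4 ((hi.1 e).trans (comm w a))
      have k3 : w.1 l ≠ w.1 a := w.1.injective.ne l1
      have k4 : w.1 l ≠ P.φ (w.1 a) := by rw [← comm]; exact w.1.injective.ne l2
      have p : ∀ {i j}, i ≠ P.φ j → j ≠ P.φ i := fun h e => h (phi_eq_iff.2 e).symm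
      have H := h2 (P.g a l)
      rw [g, nsmul_d, hm1] at H
      simp only [Cst, Pi.sub_apply, vv_act] at H
      have Ha : ∀ j, P.h * (P.vv (w.1 a) j - P.vv (w.1 l) j - (P.vv a j - P.vv l j)) = P.h := fun j => by
        rw [H j a, vv_ne ha.symm e1, vv_ne k1.symm (p k2), vv_self (Or.inr fa), vv_ne l1.symm (p l2)]
        linear_combination -P.two_h
      have Hl := Ha l
      rw [vv_ne l3 l4, vv_ne l1 l2] at Hl
      have fl : w.1 l ≠ l := fun e => hh (by rw [e] at Hl; linear_combination -Hl)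
      have fl' : w.1 l ≠ P.φ l := fun e => hh (by
        rw [e, vv_phi_eq] at Hl; linear_combination -Hl - P.vv l l * hhu)
      have gl := nf fl
      have gl' := nf_w w gl
      have all : ∀ j, j = a ∨ j = P.φ a ∨ j = w.1 a ∨ j = P.φ (w.1 a) ∨ j = l ∨ j = P.φ l ∨ j = w.1 l ∨
          j = P.φ (w.1 l) := fun j => by
        by_contra! K
        obtain ⟨j1, j2, j3, j4, j5, j6, j7, j8⟩ := K
        have := Ha j
        rw [vv_ne j3 j4, vv_ne j7 j8, vv_ne j1 j2, vv_ne j5 j6] at this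
        exact hh (by linear_combination -this)
      have q : ∀ {i j}, i ≠ j → P.φ i ≠ P.φ j := fun h => P.φ.injective.ne h
      have hku : 2 * (P.k * P.u) = P.h := by linear_combination P.u * P.two_k + hhu
      refine h1 (two_of w (vv_smul_mem hu P.h_h a) (add_mem (vv_smul_mem hu (P.k_h he) a) (vv_smul_mem hu (P.k_h he) l))
        (fun j => P.h * (P.vv (w.1 a) j - P.vv a j))
        (fun j => P.k * (P.vv (w.1 a) j - P.vv a j + P.vv (w.1 l) j - P.vv l j)) (fun j => ?_) (fun j => ?_)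
        (fun i j => ?_) (fun i j => ?_) (fun h => ?_) (fun h => ?_) fun h => ?_)
      · simp only [Pi.smul_apply, vv_act, smul_eq_mul]; ring
      · simp only [Pi.add_apply, Pi.smul_apply, vv_act, smul_eq_mul]; ring
      · linear_combination (P.vv (w.1 a) i - P.vv a i - P.vv (w.1 a) j + P.vv a j) * P.two_h
      · have : ∀ i, 2 * (P.k * (P.vv (w.1 a) i - P.vv a i + P.vv (w.1 l) i - P.vv l i)) = P.h := fun i => by
          linear_combination Ha i + (P.vv (w.1 a) i - P.vv a i + P.vv (w.1 l) i - P.vv l i) * P.two_k +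
            (P.vv (w.1 l) i - P.vv l i) * P.two_h
        rw [this, this]
      · have := h (w.1 a) l
        simp only [vv_self (Or.inr fb), vv_ne ha ha', vv_ne l3 l4, vv_ne l1 l2] at this
        exact hh (by linear_combination this)
      · have := h (w.1 a) a
        simp only [vv_self (Or.inr fb), vv_ne ha ha', vv_ne k3.symm (p k4), vv_ne l3.symm (p l4), vv_ne ha.symm e1,
          vv_self (Or.inr fa), vv_ne k1.symm (p k2), vv_ne l1.symm (p l2)] at this
        exact hh (by linear_combination this - P.two_k)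
      · have := h (w.1 a) a
        simp only [Pi.sub_apply, vv_self (Or.inr fb), vv_ne ha ha', vv_ne k3.symm (p k4), vv_ne l3.symm (p l4),
          vv_ne ha.symm e1, vv_self (Or.inr fa), vv_ne k1.symm (p k2), vv_ne l1.symm (p l2)] at this
        exact hh (by linear_combination -this + P.two_h - P.two_k)
    · have H : ∀ j, j = a ∨ j = P.φ a ∨ j = w.1 a ∨ j = P.φ (w.1 a) := fun j => by
        by_contra! K; exact h5 ⟨j, K⟩
      have e := four a (w.1 a) fa fb ha.symm e1 H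
      have e3 : 2 * (P.k * (x (w.1 a) - x a)) = 0 := by linear_combination (x (w.1 a) - x a) * P.two_k - e
      have e4 : P.k * (x (w.1 a) - x a) * P.u = P.k * (x (w.1 a) - x a) := by
        rw [hu']; linear_combination (x (w.1 a) - x a) * P.k_h he - e3
      have : ∀ j, P.k * (x (w.1⁻¹ j) - x j) = P.k * (x (w.1 a) - x a) := fun j => by
        rw [hinv]
        rcases H j with rfl | rfl | rfl | rfl
        · rfl
        · rw [comm, hx.1, hx.1]; linear_combination e4
        · rw [hw]; linear_combination -e3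
        · rw [comm, hw, hx.1, hx.1]; linear_combination -e3 - e4
      exact h3 fun i j => by simp only [this]
  · push Not at hcp
    have a1 := hcp a ha
    have c1 := hcp c hc
    have fa := nf ha
    have fc := nf hc
    have ad : a ≠ P.φ c := fun e => cb ((phi_eq_iff.2 e).symm.trans a1.symm)
    by_cases h5 : ∃ j, j ≠ a ∧ j ≠ P.φ a ∧ j ≠ c ∧ j ≠ P.φ c
    · obtain ⟨j, j1, j2, j3, j4⟩ := h5
      exact h1 (two_pairs he hu' hu w fa a1 fc c1 ca.symm ad j1 j2 j3 j4)
    · have H : ∀ j, j = a ∨ j = P.φ a ∨ j = c ∨ j = P.φ c := fun j => by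
        by_contra! K; exact h5 ⟨j, K⟩
      have e := four a c fa fc ca.symm ad H
      have : ∀ j, P.k * (x (w.1⁻¹ j) - x j) = P.h * x a := fun j => by
        rw [hinv]
        rcases H j with rfl | rfl | rfl | rfl
        · rw [a1, hx.1, hu']; linear_combination x j * P.k_h he - x j * P.two_k - x j * P.two_h
        · rw [comm, a1, P.hφ, hx.1, hu']; linear_combination -x a * P.k_h he + x a * P.two_k
        · rw [c1, hx.1, hu', e]; linear_combination x j * P.k_h he - x j * P.two_k - x j * P.two_h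
        · rw [comm, c1, P.hφ, hx.1, hu', e]; linear_combination -x c * P.k_h he + x c * P.two_k
      exact h3 fun i j => by simp only [this]

end Par

end Cfsg.Lib.PSLF
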