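import Cfsg.Agent.Lib.PSLF.Vec2

/-! Quadratic action on the diagonal part, the exceptional case `n = 4`, and commutators with small permutations. -/
set_option autoImplicit false

namespace Cfsg.Lib.PSLF
open Equiv

variable {n : ℕ}

namespace Par
variable {P : Par n}

/-- the exceptional case `PSL₄(q)`, `q ≡ ±3 mod 8` -/
def Exc (P : Par n) : Prop := n = 4 ∧ (P.u = 1 ∧ P.h = 2 ∨ P.u ≠ 1 ∧ P.h = 4)

theorem quad (hn : 3 ≤ n) (w : P.W) (hw : ∀ j, w.1 (w.1 j) = j) (h1 : w ≠ 1)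
    (H : ∀ y, ρ w (ρ w y - y) = ρ w y - y) : P.Exc ∧ ∀ j, w.1 j ≠ j := by
  have hinv : ∀ j, w.1⁻¹ j = w.1 j := fun j => Perm.inv_eq_iff_eq.2 (hw j).symm
  have K : ∀ x ∈ P.DD, ∀ i j, 2 * (x i - x (w.1 i)) = 2 * (x j - x (w.1 j)) := fun x hx i j => by
    have := H (cl x hx)
    rw [d_cl, ρ_cl, cl_eq] at this
    have := this i j
    simp only [Pi.sub_apply, hinv, hw] at this
    linear_combination this
  have hi : ∀ {i j}, w.1 i = j ↔ i = w.1 j := ⟨fun e => by rw [← e, hw], fun e => by rw [e, hw]⟩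
  obtain ⟨a, ha⟩ : ∃ a, w.1 a ≠ a := by
    by_contra! H
    exact h1 (Subtype.ext (Equiv.ext H))
  rcases P.cs' with ⟨hu, hφ⟩ | ⟨he, hu', hu, hφ⟩
  · obtain ⟨l, l1, l2⟩ := exists_third hn a (w.1 a)
    have k := K _ (vv_sub_mem a l) a
    have h2 := P.two_ne
    have k1 : w.1 l ≠ a := fun e => l2 (hi.1 e)
    have k2 : w.1 l ≠ w.1 a := w.1.injective.ne l1
    have fx : ∀ j, w.1 j ≠ j := fun j e => by
      simpa [vv_one hu hφ, e, ha, l1.symm, l2.symm, h2] using k j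
    refine ⟨⟨eq_four ha.symm l1.symm k1.symm l2.symm k2.symm (fx l).symm fun j => ?_, Or.inl ⟨hu, ?_⟩⟩, fx⟩
    · by_contra! J
      simpa [vv_one hu hφ, ha, l1.symm, l2.symm, h2, J, hi] using k j
    · have := k (w.1 a)
      simp [vv_one hu hφ, ha, l1.symm, l2.symm, hw] at this
      exact ((P.tors (c := 2) (by linear_combination this)).resolve_left h2).symm
  have h4 := P.four_ne he
  have p : ∀ {i j}, i ≠ P.φ j → j ≠ P.φ i := fun h e => h (phi_eq_iff.2 e).symm
  have nf : ∀ {a}, w.1 a ≠ a → P.φ a ≠ a := fun h e => h (fix_of hu w e)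
  have h8 : (8 : P.R) = 0 → P.h = 4 := fun e =>
    ((P.tors (c := 4) (by linear_combination e)).resolve_left h4).symm
  by_cases hcp : ∃ a, w.1 a ≠ a ∧ w.1 a ≠ P.φ a
  · clear ha a
    obtain ⟨a, ha, ha'⟩ := hcp
    have fa := nf ha
    have fb := nf_w w fa
    have k := K _ (vv_smul_mem hu P.two_h a) a
    simp only [Pi.smul_apply, smul_eq_mul, vv_self (Or.inr fa), vv_ne ha ha'] at k
    have all : ∀ j, j = a ∨ j = P.φ a ∨ j = w.1 a ∨ j = P.φ (w.1 a) := fun j => by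
      by_contra! J
      have := k j
      rw [vv_ne J.1 J.2.1, vv_ne (fun e => J.2.2.1 (hi.1 e)) fun e => J.2.2.2 ((hi.1 e).trans (comm w a))] at this
      exact h4 (by linear_combination this)
    refine ⟨⟨eq_four fa.symm ha.symm (p ha') ha'.symm (P.φ.injective.ne ha.symm) fb.symm all, Or.inr ⟨hu, h8 ?_⟩⟩,
      fun j e => ?_⟩
    · have := k (w.1 a)
      rw [hw, vv_self (Or.inr fa), vv_ne ha ha'] at this
      linear_combination this
    · have := k j
      rw [e] at this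
      exact h4 (by linear_combination this)
  push Not at hcp
  have a1 := hcp a ha
  have fa := nf ha
  obtain ⟨l, l1, l2⟩ := exists_third hn a (P.φ a)
  have k := K _ (vv_sub_mem a l) a
  simp only [Pi.sub_apply, a1, vv_self (Or.inr fa), vv_phi fa, vv_ne l1.symm (p l2),
    vv_ne l2.symm (P.φ.injective.ne l1.symm), hu'] at k
  have fx : ∀ j, w.1 j ≠ j := fun j e => by
    have := k j
    rw [e] at this
    exact h4 (by linear_combination this + P.two_h)
  refine ⟨⟨eq_four fa.symm l1.symm (p l2) l2.symm (P.φ.injective.ne l1.symm) (nf (fx l)).symm fun j => ?_,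
    Or.inr ⟨hu, h8 ?_⟩⟩, fx⟩
  · by_contra! J
    have := k j
    rw [hcp j (fx j), vv_ne J.1 J.2.1, vv_ne J.2.2.1 J.2.2.2, vv_tw, vv_tw, vv_ne J.1 J.2.1, vv_ne J.2.2.1 J.2.2.2] at this
    exact h4 (by linear_combination this + P.two_h)
  · have := k (P.φ a)
    rw [comm, a1, P.hφ, vv_self (Or.inr fa), vv_phi fa, vv_ne l1.symm (p l2), vv_ne l2.symm (P.φ.injective.ne l1.symm),
      hu'] at this
    linear_combination this + 2 * P.two_h

/-- four points adapted to `φ` -/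
theorem Exc.pts (E : P.Exc) {a b : Fin n} (ab : a ≠ b) (h : P.u = 1 ∧ P.φ = 1 ∨ P.φ a = b) :
    ∃ c d, a ≠ c ∧ a ≠ d ∧ b ≠ c ∧ b ≠ d ∧ c ≠ d ∧
      (P.u = 1 ∧ P.φ = 1 ∧ P.h = 2 ∨ P.φ a = b ∧ P.φ c = d ∧ P.u = 3 ∧ P.h = 4) := by
  have hn := E.1
  obtain ⟨c, ca, cb⟩ := exists_third (by omega) a b
  obtain ⟨d, hd⟩ := exists_new {a, b, c} (Finset.card_le_three.trans_lt (by omega))
  simp only [Finset.mem_insert, Finset.mem_singleton, not_or] at hd
  refine ⟨c, d, ca.symm, Ne.symm hd.1, cb.symm, Ne.symm hd.2.1, Ne.symm hd.2.2, ?_⟩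
  rcases P.cs' with ⟨hu, hφ⟩ | ⟨he, hu', hu, hφ⟩
  · exact Or.inl ⟨hu, hφ, (E.2.resolve_right fun e => e.1 hu).2⟩
  have h1 := h.resolve_left fun e => hu e.1
  have h2 := (E.2.resolve_left fun e => hu e.1).2
  refine Or.inr ⟨h1, ?_, by rw [hu', h2]; norm_num, h2⟩
  have en := enum_four hn ab ca.symm (Ne.symm hd.1) cb.symm (Ne.symm hd.2.1) (Ne.symm hd.2.2)
  rcases en (P.φ c) with e | e | e | e
  · exact absurd ((phi_eq_iff.1 e).trans h1) cb
  · exact absurd (P.φ.injective (e.trans h1.symm)) ca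
  · rcases en (P.φ d) with e' | e' | e' | e'
    · exact absurd ((phi_eq_iff.1 e').trans h1) hd.2.1
    · exact absurd (P.φ.injective (e'.trans h1.symm)) hd.1
    · exact absurd ((phi_eq_iff.1 e').trans e) hd.2.2
    · exact absurd (hφ _ _ e' e) hd.2.2
  · exact e

theorem exists_pair (hn : 2 ≤ n) : ∃ a b : Fin n, a ≠ b ∧ (P.u = 1 ∧ P.φ = 1 ∨ P.φ a = b) := by
  have h01 : (⟨0, by omega⟩ : Fin n) ≠ ⟨1, by omega⟩ := by simp
  rcases P.cs' with h | ⟨-, -, -, hφ⟩
  · exact ⟨_, _, h01, Or.inl h⟩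
  · by_contra! H
    refine h01 (hφ _ _ ?_ ?_) <;>
    · by_contra e
      exact (H _ _ (Ne.symm e)).2 rfl

theorem Exc.four (E : P.Exc) (y : P.Ab) : 4 • y = 0 := by
  obtain ⟨x, hx, rfl⟩ := cl_surj y
  obtain ⟨a, b, ab, h⟩ := exists_pair (P := P) (by have := E.1; omega)
  obtain ⟨c, d, ac, ad, bc, bd, cd, H⟩ := E.pts ab h
  rw [cl_nsmul, cl_eq_zero]
  have : ∀ j, 4 * x j = 4 * x a := fun j => by
    have t := P.two_h
    rcases H with ⟨-, -, h⟩ | ⟨rfl, rfl, hu, h⟩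
    · rw [h] at t; linear_combination (x j - x a) * t
    · have s := hx.2
      rw [sum_four E.1 ab ac ad bc bd cd, hx.1, hx.1, hu] at s
      rw [h] at t
      rcases enum_four E.1 ab ac ad bc bd cd j with rfl | rfl | rfl | rfl
      · rfl
      · rw [hx.1, hu]; linear_combination x a * t
      · linear_combination s - x a * t
      · rw [hx.1, hu]; linear_combination s + (x c - x a) * t
  intro i j
  simp [this]

theorem Exc.rank (E : P.Exc) {x y z : P.Ab} (hx : 2 • x = 0) (hy : 2 • y = 0) (hz : 2 • z = 0) (x0 : x ≠ 0)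
    (y0 : y ≠ 0) (xy : x ≠ y) : z = 0 ∨ z = x ∨ z = y ∨ z = x + y := by
  obtain ⟨a, b, ab, h⟩ := exists_pair (P := P) (by have := E.1; omega)
  obtain ⟨c, d, ac, ad, bc, bd, cd, H⟩ := E.pts ab h
  let κ : Fin n → P.Ab →+ P.R := fun i => QuotientAddGroup.lift _
    ⟨⟨fun x => x.1 i - x.1 a, by simp⟩, fun x y => by simp; ring⟩ fun x hx => sub_eq_zero.2 (hx i a)
  have inj : ∀ y z, κ b y = κ b z → κ c y = κ c z → y = z := fun y z h1 h2 => by
    rw [← sub_eq_zero, ← map_sub] at h1 h2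
    rw [← sub_eq_zero]
    obtain ⟨x, hx, e⟩ := cl_surj (y - z)
    rw [e] at h1 h2 ⊢
    have h1 : x b = x a := sub_eq_zero.1 h1
    have h2 : x c = x a := sub_eq_zero.1 h2
    have h3 : x d = x a := by
      rcases H with ⟨-, -, h⟩ | ⟨rfl, rfl, hu, h⟩
      · have s := hx.2
        have t := P.two_h
        rw [sum_four E.1 ab ac ad bc bd cd, h1, h2] at s
        rw [h] at t
        linear_combination s - x a * t
      · rw [hx.1, h2, ← hx.1, h1]
    have : ∀ j, x j = x a := fun j => by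
      rcases enum_four E.1 ab ac ad bc bd cd j with rfl | rfl | rfl | rfl <;> simp [*]
    exact cl_eq_zero.2 fun i j => by rw [this i, this j]
  have t : ∀ i y, 2 • y = 0 → κ i y = 0 ∨ κ i y = P.h := fun i y hy =>
    P.tors (by have := congrArg (κ i) hy; simpa using this)
  have x1 : ¬ (κ b x = 0 ∧ κ c x = 0) := fun e => x0 (inj _ _ (by simp [e]) (by simp [e]))
  have y1 : ¬ (κ b y = 0 ∧ κ c y = 0) := fun e => y0 (inj _ _ (by simp [e]) (by simp [e]))
  have z1 : ¬ (κ b x = κ b y ∧ κ c x = κ c y) := fun e => xy (inj _ _ e.1 e.2)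
  by_contra! K
  have k1 : ¬ (κ b z = 0 ∧ κ c z = 0) := fun e => K.1 (inj _ _ (by simp [e]) (by simp [e]))
  have k2 : ¬ (κ b z = κ b x ∧ κ c z = κ c x) := fun e => K.2.1 (inj _ _ e.1 e.2)
  have k3 : ¬ (κ b z = κ b y ∧ κ c z = κ c y) := fun e => K.2.2.1 (inj _ _ e.1 e.2)
  have k4 : ¬ (κ b z = κ b x + κ b y ∧ κ c z = κ c x + κ c y) := fun e =>
    K.2.2.2 (inj _ _ (by simp [e]) (by simp [e]))
  have hh := P.h_add
  rcases t b x hx with e1 | e1 <;> rcases t c x hx with e2 | e2 <;> rcases t b y hy with e3 | e3 <;>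
    rcases t c y hy with e4 | e4 <;> rcases t b z hz with e5 | e5 <;> rcases t c z hz with e6 | e6 <;> simp_all

theorem Exc.two (E : P.Exc) {a b : Fin n} (ab : a ≠ b) (h : swap a b ∈ P.W) (w : P.W) (hw : ∀ j, w.1 (w.1 j) = j)
    (hf : ∀ j, w.1 j ≠ j) (ha : w.1 a = b) : Two (ρ w) := by
  obtain ⟨c, d, ac, ad, bc, bd, cd, H⟩ := E.pts ab (swap_mem ab h)
  have hb : w.1 b = a := by rw [← ha, hw]
  have en := enum_four E.1 ab ac ad bc bd cd
  have hc : w.1 c = d := by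
    rcases en (w.1 c) with e | e | e | e
    · exact absurd (w.1.injective (e.trans hb.symm)) bc.symm
    · exact absurd (w.1.injective (e.trans ha.symm)) ac.symm
    · exact absurd e (hf c)
    · exact e
  rcases H with ⟨hu, hφ, -⟩ | ⟨rfl, rfl, hu, hh⟩
  · exact two_one hu hφ w ab ac ad bc bd cd ha hb hc (by rw [← hc, hw])
  rcases P.cs' with ⟨-, hφ⟩ | ⟨he, hu', hu1, -⟩
  · exact absurd (by rw [hφ]; rfl) ab
  have t := P.two_h
  have h4 := P.four_ne he
  rw [hh] at t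
  refine two_of w (vv_smul_mem hu1 (P.k_h he) a) (vv_sub_mem a c) _ (fun j => 2 * (P.vv a j - P.vv c j))
    (d_k he hu' w ha) (fun j => ?_) (fun i j => ?_) (fun i j => ?_) (fun h => ?_) (fun h => ?_) fun h => ?_
  · simp only [Pi.sub_apply, vv_act, ha, hc, vv_phi_eq, hu]; ring
  · linear_combination (P.vv a i - P.vv a j) * P.two_h
  · have : ∀ i, 2 * (2 * (P.vv a i - P.vv c i)) = 4 := fun i => by
      rcases en i with rfl | rfl | rfl | rfl
      · rw [vv_self (Or.inr ab.symm), vv_ne ac ad]; ring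
      · rw [vv_phi ab.symm, vv_ne bc bd, hu]; linear_combination t
      · rw [vv_self (Or.inr cd.symm), vv_ne ac.symm bc.symm]; linear_combination -t
      · rw [vv_phi cd.symm, vv_ne ad.symm bd.symm, hu]; linear_combination -2 * t
    rw [this, this]
  · have := h a c
    simp only [vv_self (Or.inr ab.symm), vv_ne ac.symm bc.symm, hh] at this
    exact h4 (by linear_combination this)
  · have := h a c
    simp only [vv_self (Or.inr ab.symm), vv_ne ac.symm bc.symm, vv_ne ac ad, vv_self (Or.inr cd.symm)] at this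
    exact h4 (by linear_combination this)
  · have := h a (P.φ a)
    simp only [Pi.sub_apply, vv_self (Or.inr ab.symm), vv_phi ab.symm, vv_ne ac ad, vv_ne bc bd, hh, hu] at this
    exact h4 (by linear_combination -this)

theorem Exc.calc (E : P.Exc) (s t : Mon P) {a b : Fin n} (ab : a ≠ b) (ht : t.π = swap a b)
    (hs : ∀ j, s.π (s.π j) = j) (hf : ∀ j, s.π j ≠ j) (ha : s.π a ≠ b) :
    (s * (t * s * t⁻¹)).π a = b ∧ (∀ j, (s * (t * s * t⁻¹)).π ((s * (t * s * t⁻¹)).π j) = j) ∧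
      (∀ j, (s * (t * s * t⁻¹)).π j ≠ j) ∧ P.Cst (s * (t * s * t⁻¹) * (s * (t * s * t⁻¹))).x := by
  have hn := E.1
  have hinv : s.π⁻¹ = s.π := Equiv.ext fun j => Perm.inv_eq_iff_eq.2 (hs j).symm
  obtain ⟨c, hc⟩ : ∃ c, s.π a = c := ⟨_, rfl⟩
  obtain ⟨d, hd⟩ : ∃ d, s.π b = d := ⟨_, rfl⟩
  have hc' : s.π c = a := by rw [← hc, hs]
  have hd' : s.π d = b := by rw [← hd, hs]
  have ac : a ≠ c := hc ▸ (hf a).symm
  have bc : b ≠ c := hc ▸ ha.symm
  have bd : b ≠ d := hd ▸ (hf b).symm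
  have ad : a ≠ d := fun e => ha (e ▸ hd')
  have cd : c ≠ d := hc ▸ hd ▸ s.π.injective.ne ab
  have en := enum_four hn ab ac ad bc bd cd
  have s1 := s.det
  have s2 := t.det
  have e : s.π = swap a c * swap b d := Equiv.ext fun j => by
    rcases en j with rfl | rfl | rfl | rfl <;> simp [swap_apply_def, *, ab.symm, ad.symm, bc.symm, cd.symm]
  rw [sum_four hn ab ac ad bc bd cd, e] at s1
  rw [sum_four hn ab ac ad bc bd cd, ht] at s2
  simp [ac, bd] at s1
  simp [ab] at s2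
  have s3 : 4 * (t.x a + t.x b) = 0 := by
    have h2 := P.two_h
    rcases swap_mem ab (mem_W.2 (ht ▸ t.comm)) with h | h
    · rw [(E.2.resolve_right fun e => e.1 h.1).2] at h2
      linear_combination (t.x a + t.x b) * h2
    · rcases P.cs' with ⟨-, hφ⟩ | ⟨he, hu', hu1, -⟩
      · exact absurd (by rw [← h, hφ]; rfl) ab
      · rw [← h, t.tw, hu']; linear_combination 2 * t.x a * h2
  have wc : swap a b c = c := swap_apply_of_ne_of_ne ac.symm bc.symm
  have wd : swap a b d = d := swap_apply_of_ne_of_ne ad.symm bd.symm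
  have h2 := P.two_h
  refine ⟨?_, fun j => ?_, fun j => ?_, ?_⟩
  · simp only [Mon.mul_π, Mon.inv_π, ht, swap_inv, Perm.mul_apply, swap_apply_left, hd, wd, hd']
  · rcases en j with e | e | e | e <;> simp only [e, Mon.mul_π, Mon.inv_π, ht, swap_inv, Perm.mul_apply,
      swap_apply_left, swap_apply_right, hc, hd, hc', hd', wc, wd]
  · rcases en j with e | e | e | e <;> simp only [e, Mon.mul_π, Mon.inv_π, ht, swap_inv, Perm.mul_apply,
      swap_apply_left, swap_apply_right, hc, hd, hc', hd', wc, wd]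
    exacts [ab.symm, ab, cd.symm, cd]
  · have : ∀ j, (s * (t * s * t⁻¹) * (s * (t * s * t⁻¹))).x j = P.h - 2 * (t.x a + t.x b) := fun j => by
      rcases en j with e | e | e | e <;> simp only [e, Mon.mul_π, Mon.inv_π, Mon.mul_x, Mon.inv_x, mul_inv_rev,
        hinv, ht, swap_inv, Perm.mul_apply, swap_apply_left, swap_apply_right, hc, hd, hc', hd', wc, wd]
      · linear_combination s1 + s2
      · linear_combination s1 + s2
      · linear_combination s1 - s2 + s3 - h2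
      · linear_combination s1 - s2 + s3 - h2
    exact fun i j => by rw [this, this]

theorem d_swap_eq {a b : Fin n} (ab : a ≠ b) (h : swap a b ∈ P.W) (y : P.Ab) :
    ∃ t : ℕ, ρ ⟨_, h⟩ y - y = t • P.g b a := by
  obtain ⟨x, hx, rfl⟩ := cl_surj y
  have key : ∀ c : P.R, (∀ j, x ((swap a b)⁻¹ j) - x j = c * (P.vv b j - P.vv a j)) →
      ∃ t : ℕ, ρ ⟨_, h⟩ (cl x hx) - cl x hx = t • P.g b a := fun c hc =>
    ⟨c.val, by rw [d_cl, g, ← cl_smul]; congr 1; exact funext hc⟩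
  rcases swap_mem ab h with ⟨hu, hφ⟩ | rfl
  · refine key (x a - x b) fun j => ?_
    rw [d_swap, vv_one hu hφ, vv_one hu hφ]
    split_ifs with h1 h2 <;> simp_all
  · refine key (x a) fun j => ?_
    rw [d_swap, vv_phi_eq, vv_nf ab.symm, hx.1]
    split_ifs
    · ring
    · linear_combination -x a * P.u_sq
    · ring

theorem d_couple {a b a' b' : Fin n} (ab : a ≠ b) (aa : a ≠ a') (ab' : a ≠ b') (ba : b ≠ a') (bb : b ≠ b') (ab'' : a' ≠ b')
    (h : swap a b * swap a' b' ∈ P.W) (H : P.u = 1 ∧ P.φ = 1 ∨ P.φ a = a' ∧ P.φ b = b') (y : P.Ab) :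
    ∃ t s : ℕ, ρ ⟨_, h⟩ y - y = t • P.g b a + s • (P.g b' b - P.g a' a) := by
  obtain ⟨x, hx, rfl⟩ := cl_surj y
  have key : ∀ c d : P.R, (∀ j, x ((swap a b * swap a' b')⁻¹ j) - x j = c * (P.vv b j - P.vv a j) +
      d * (P.vv b' j - P.vv b j - (P.vv a' j - P.vv a j))) →
      ∃ t s : ℕ, ρ ⟨_, h⟩ (cl x hx) - cl x hx = t • P.g b a + s • (P.g b' b - P.g a' a) := fun c d hc =>
    ⟨c.val, d.val, by rw [d_cl, g, g, g, cl_sub, ← cl_smul, ← cl_smul, cl_add]; congr 1; exact funext hc⟩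
  have en : ∀ j, j = a ∨ j = b ∨ j = a' ∨ j = b' ∨ j ≠ a ∧ j ≠ b ∧ j ≠ a' ∧ j ≠ b' := fun j => by tauto
  rcases H with ⟨hu, hφ⟩ | ⟨rfl, rfl⟩
  · refine key (x a - x b + (x a' - x b')) (x a' - x b') fun j => ?_
    rcases en j with e | e | e | e | e <;>
      simp [vv_one hu hφ, swap_apply_def, *, ab.symm, aa.symm, ab'.symm, ba.symm, bb.symm, ab''.symm]
    all_goals ring
  · refine key (x a - x b) 0 fun j => ?_
    rcases en j with e | e | e | e | e <;>
      simp [vv_nf aa.symm, vv_nf bb.symm, swap_apply_def, *, ab.symm, aa.symm, ab'.symm, ba.symm, bb.symm, hx.1]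
    all_goals ring

end Par

end Cfsg.Lib.PSLF
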